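import Mathlib

/-!
Owner: helper12. Small actions of a finite abelian group in which all nontrivial elements have
equally many fixed points.
-/

set_option autoImplicit false
set_option linter.all false

namespace CfsgLib.Known.MinIndexPSL

open MulAction

variable {A : Type*} [CommGroup A] [Finite A] {Ω : Type*} [Finite Ω] [MulAction A Ω] {f : ℕ}

/-- The number of orbits of a subgroup. -/
noncomputable def orb (K : Subgroup A) (Ω : Type*) [MulAction A Ω] : ℕ :=
  Nat.card (orbitRel.Quotient K Ω)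

/-- All nontrivial elements fix `f` points, the set is small, and the action is not trivial. -/
structure EqFix (A : Type*) [Group A] (Ω : Type*) [MulAction A Ω] (f : ℕ) : Prop where
  fix : ∀ a : A, a ≠ 1 → Nat.card (fixedBy Ω a) = f
  small : Nat.card Ω < 2 * Nat.card A
  moved : ∃ (a : A) (x : Ω), a • x ≠ x

theorem orb_mul_card (hf : ∀ a : A, a ≠ 1 → Nat.card (fixedBy Ω a) = f) (K : Subgroup A) :
    orb K Ω * Nat.card K = Nat.card Ω + (Nat.card K - 1) * f := by
  classical
  haveI := Fintype.ofFinite Ω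
  haveI := Fintype.ofFinite A
  haveI : Fintype K := Fintype.ofFinite K
  haveI : Fintype (orbitRel.Quotient K Ω) := Fintype.ofFinite _
  have h := sum_card_fixedBy_eq_card_orbits_mul_card_group K Ω
  rw [orb, Nat.card_eq_fintype_card, Nat.card_eq_fintype_card (α := K)]
  refine h.symm.trans ?_
  rw [← Finset.add_sum_erase _ _ (Finset.mem_univ (1 : K))]
  congr 1
  · rw [← Nat.card_eq_fintype_card]
    exact Nat.card_congr (Equiv.subtypeUnivEquiv fun x => by simp)
  · rw [Finset.sum_congr rfl (g := fun _ => f), Finset.sum_const,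
      Finset.card_erase_of_mem (Finset.mem_univ _), Finset.card_univ, smul_eq_mul]
    intro k hk
    rw [← Nat.card_eq_fintype_card]
    exact hf (k : A) fun e => Finset.ne_of_mem_erase hk (Subtype.ext e)

theorem exists_moved (h : EqFix A Ω f) : ∃ a : A, a ≠ 1 ∧ ∃ x : Ω, a • x ≠ x := by
  obtain ⟨a, x, hx⟩ := h.moved
  exact ⟨a, fun e => hx (by rw [e, one_smul]), x, hx⟩

theorem card_eq_add (h : EqFix A Ω f) :
    Nat.card Ω = f + Nat.card A ∧ orb (⊤ : Subgroup A) Ω = f + 1 := by
  have hb := orb_mul_card h.fix (⊤ : Subgroup A)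
  rw [Subgroup.card_top] at hb
  obtain ⟨a, ha, x, hx⟩ := exists_moved h
  have hlt : f < Nat.card Ω := by
    rw [← h.fix a ha, Nat.card_coe_set_eq, ← Set.ncard_univ]
    exact Set.ncard_lt_ncard ⟨Set.subset_univ _, fun hh => hx (hh (Set.mem_univ x))⟩ Set.finite_univ
  obtain ⟨q, hq⟩ := Nat.exists_eq_succ_of_ne_zero (Nat.card_pos (α := A)).ne'
  have hs := h.small
  rw [hq] at hb hs ⊢
  simp only [Nat.succ_eq_add_one, Nat.add_sub_cancel] at hb hs ⊢
  have hw : f < orb (⊤ : Subgroup A) Ω := by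
    by_contra hc
    nlinarith [Nat.mul_le_mul_right (q + 1) (not_lt.1 hc)]
  have hw2 : orb (⊤ : Subgroup A) Ω < f + 2 := by
    by_contra hc
    nlinarith [Nat.mul_le_mul_right (q + 1) (not_lt.1 hc)]
  have : orb (⊤ : Subgroup A) Ω = f + 1 := by omega
  refine ⟨?_, this⟩
  rw [this] at hb
  nlinarith

theorem orb_eq (h : EqFix A Ω f) (K : Subgroup A) : orb K Ω = f + K.index := by
  have hb := orb_mul_card h.fix K
  rw [(card_eq_add h).1, ← K.card_mul_index] at hb
  obtain ⟨q, hq⟩ := Nat.exists_eq_succ_of_ne_zero (Nat.card_pos (α := K)).ne'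
  rw [hq] at hb
  simp only [Nat.succ_eq_add_one, Nat.add_sub_cancel] at hb
  have : orb K Ω * (q + 1) = (f + K.index) * (q + 1) := by rw [hb]; ring
  exact Nat.eq_of_mul_eq_mul_right (Nat.succ_pos q) this

/-- The map of orbits of a subgroup to orbits. -/
def orbMap (K : Subgroup A) : orbitRel.Quotient K Ω → orbitRel.Quotient (⊤ : Subgroup A) Ω :=
  Quotient.map' id fun x y hxy => by
    rw [orbitRel_apply, mem_orbit_iff] at hxy ⊢
    obtain ⟨k, hk⟩ := hxy
    exact ⟨⟨(k : A), Subgroup.mem_top _⟩, hk⟩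

theorem mk_eq_mk_iff (K : Subgroup A) (x y : Ω) :
    (Quotient.mk'' x : orbitRel.Quotient K Ω) = Quotient.mk'' y ↔ ∃ a ∈ K, a • y = x := by
  rw [Quotient.eq'', orbitRel_apply, mem_orbit_iff]
  exact ⟨fun ⟨k, hk⟩ => ⟨k, k.2, hk⟩, fun ⟨a, ha, e⟩ => ⟨⟨a, ha⟩, e⟩⟩

/-- The orbits of `K` inside the orbit of `x`. -/
def fibre (K : Subgroup A) (x : Ω) : Set (orbitRel.Quotient K Ω) :=
  orbMap K ⁻¹' {Quotient.mk'' x}

theorem mk_mem_fibre (K : Subgroup A) (x : Ω) (a : A) :
    (Quotient.mk'' (a • x) : orbitRel.Quotient K Ω) ∈ fibre K x :=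
  (mk_eq_mk_iff _ _ _).2 ⟨a, Subgroup.mem_top _, rfl⟩

theorem card_fibre (K : Subgroup A) (x : Ω) :
    Nat.card (fibre (Ω := Ω) K x) = (K ⊔ stabilizer A x).index := by
  rw [Subgroup.index_eq_card]
  refine (Nat.card_congr (Equiv.ofBijective (fun q => Quotient.liftOn' q
    (fun a => (⟨Quotient.mk'' (a • x), mk_mem_fibre K x a⟩ : fibre (Ω := Ω) K x)) ?_) ⟨?_, ?_⟩)).symm
  · intro a b hab
    rw [QuotientGroup.leftRel_apply] at hab
    obtain ⟨k, hk, s, hs, e⟩ := Subgroup.mem_sup.1 hab
    refine Subtype.ext ((mk_eq_mk_iff _ _ _).2 ⟨k⁻¹, K.inv_mem hk, ?_⟩)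
    have hb : b = a * k * s := by rw [mul_assoc, e, mul_inv_cancel_left]
    rw [hb, mul_comm a k, mul_assoc, mul_smul, inv_smul_smul, mul_smul, mem_stabilizer_iff.1 hs]
  · intro u v
    induction u using Quotient.inductionOn' with | h a => ?_
    induction v using Quotient.inductionOn' with | h b => ?_
    intro e
    obtain ⟨k, hk, hkx⟩ := (mk_eq_mk_iff _ _ _).1 (congrArg Subtype.val e)
    refine Quotient.sound' ?_
    rw [QuotientGroup.leftRel_apply]
    have hs : a⁻¹ * (k * b) ∈ stabilizer A x := by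
      rw [mem_stabilizer_iff, mul_smul, mul_smul, hkx, inv_smul_smul]
    have : a⁻¹ * b = k⁻¹ * (a⁻¹ * (k * b)) := by rw [mul_left_comm a⁻¹ k b, inv_mul_cancel_left]
    rw [this]
    exact Subgroup.mul_mem_sup (K.inv_mem hk) hs
  · rintro ⟨v, hv⟩
    induction v using Quotient.inductionOn' with | h y => ?_
    obtain ⟨a, -, ha⟩ := (mk_eq_mk_iff _ _ _).1 hv
    exact ⟨QuotientGroup.mk a, Subtype.ext (congrArg Quotient.mk'' ha)⟩

/-- For every subgroup the orbits split `index` times more in total. -/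
theorem sum_fibre (h : EqFix A Ω f) (K : Subgroup A)
    [Fintype (orbitRel.Quotient (⊤ : Subgroup A) Ω)] :
    ∑ b : orbitRel.Quotient (⊤ : Subgroup A) Ω, (K ⊔ stabilizer A b.out).index = f + K.index := by
  classical
  haveI : Fintype (orbitRel.Quotient K Ω) := Fintype.ofFinite _
  rw [← orb_eq h K, orb, ← Nat.card_congr (Equiv.sigmaFiberEquiv (orbMap (Ω := Ω) K)), Nat.card_sigma]
  refine Finset.sum_congr rfl fun b _ => ?_
  rw [← card_fibre K b.out, fibre]
  exact Nat.card_congr (Equiv.subtypeEquivRight fun q => by simp)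

theorem orbit_stabilizer (x : Ω) (a : A) : stabilizer A (a • x) = stabilizer A x := by
  ext b
  rw [mem_stabilizer_iff, mem_stabilizer_iff, smul_comm]
  exact ⟨fun e => MulAction.injective a e, fun e => by rw [e]⟩

theorem stabilizer_out (x : Ω) :
    stabilizer A (Quotient.mk'' x : orbitRel.Quotient (⊤ : Subgroup A) Ω).out = stabilizer A x := by
  obtain ⟨a, -, ha⟩ := (mk_eq_mk_iff (⊤ : Subgroup A) _ x).1
    (Quotient.out_eq' (Quotient.mk'' x : orbitRel.Quotient (⊤ : Subgroup A) Ω))
  rw [← ha, orbit_stabilizer]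

/-- The excess of the fibres equals the index minus one, in the sharp form used below. -/
theorem excess (h : EqFix A Ω f) (K : Subgroup A) (x : Ω) {y : Ω}
    (hxy : ∀ a : A, a • x ≠ y) :
    (K ⊔ stabilizer A x).index + (K ⊔ stabilizer A y).index ≤ K.index + 1 := by
  classical
  haveI : Fintype (orbitRel.Quotient (⊤ : Subgroup A) Ω) := Fintype.ofFinite _
  have hs := sum_fibre h K
  rw [← stabilizer_out x, ← stabilizer_out y]
  set u : orbitRel.Quotient (⊤ : Subgroup A) Ω := Quotient.mk'' x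
  set v : orbitRel.Quotient (⊤ : Subgroup A) Ω := Quotient.mk'' y
  have huv : u ≠ v := fun e => by
    obtain ⟨a, -, ha⟩ := (mk_eq_mk_iff _ _ _).1 e.symm
    exact hxy a ha
  rw [← Finset.add_sum_erase _ _ (Finset.mem_univ u),
    ← Finset.add_sum_erase _ _ (Finset.mem_erase.2 ⟨huv.symm, Finset.mem_univ v⟩)] at hs
  have hc : (((Finset.univ : Finset (orbitRel.Quotient (⊤ : Subgroup A) Ω)).erase u).erase v).card
      = f - 1 := by
    rw [Finset.card_erase_of_mem (Finset.mem_erase.2 ⟨huv.symm, Finset.mem_univ v⟩),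
      Finset.card_erase_of_mem (Finset.mem_univ _), Finset.card_univ, ← Nat.card_eq_fintype_card]
    have := (card_eq_add h).2
    rw [orb] at this
    omega
  have hle : f - 1 ≤ ∑ b ∈ ((Finset.univ : Finset (orbitRel.Quotient (⊤ : Subgroup A) Ω)).erase u).erase v,
      (K ⊔ stabilizer A b.out).index := by
    rw [← hc, Finset.card_eq_sum_ones]
    exact Finset.sum_le_sum fun b _ => Nat.one_le_iff_ne_zero.2 Subgroup.index_ne_zero_of_finite
  have hf : 1 ≤ f := by
    have h2 := (card_eq_add h).2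
    rw [orb, Nat.card_eq_fintype_card] at h2
    have := Fintype.one_lt_card_iff.2 ⟨u, v, huv⟩
    omega
  omega

/-- Stabilisers of points in different orbits generate the group. -/
theorem stabilizer_sup (h : EqFix A Ω f) {x y : Ω} (hxy : ∀ a : A, a • x ≠ y) :
    stabilizer A x ⊔ stabilizer A y = ⊤ := by
  have h1 := excess h (stabilizer A x) x hxy
  rw [sup_idem] at h1
  have h0 : (stabilizer A x ⊔ stabilizer A y).index ≠ 0 := Subgroup.index_ne_zero_of_finite
  exact Subgroup.index_eq_one.1 (by omega)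

/-- If one point is free, the points outside its orbit are fixed. -/
theorem fixed_of_free (h : EqFix A Ω f) {x y : Ω} (hx : stabilizer A x = ⊥)
    (hxy : ∀ a : A, a • x ≠ y) (a : A) : a • y = y := by
  have h1 := stabilizer_sup h hxy
  rw [hx, bot_sup_eq] at h1
  exact mem_stabilizer_iff.1 (h1 ▸ Subgroup.mem_top a)

/-- A proper subgroup is enlarged properly by some stabiliser. -/
theorem exists_serving (h : EqFix A Ω f) {K : Subgroup A} (hK : K ≠ ⊤) :
    ∃ x : Ω, K ⊔ stabilizer A x ≠ ⊤ := by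
  classical
  by_contra hc
  push Not at hc
  haveI : Fintype (orbitRel.Quotient (⊤ : Subgroup A) Ω) := Fintype.ofFinite _
  have hs := sum_fibre h K
  simp only [hc, Subgroup.index_top, Finset.sum_const, Finset.card_univ, smul_eq_mul, mul_one] at hs
  rw [← Nat.card_eq_fintype_card] at hs
  have h2 := (card_eq_add h).2
  rw [orb] at h2
  exact hK (Subgroup.index_eq_one.1 (by omega))

/-- A second serving point exists if the first does not take the whole index. -/
theorem exists_serving_other (h : EqFix A Ω f) {K : Subgroup A} {x : Ω}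
    (hx : (K ⊔ stabilizer A x).index < K.index) :
    ∃ y : Ω, (∀ a : A, a • x ≠ y) ∧ K ⊔ stabilizer A y ≠ ⊤ := by
  classical
  by_contra hc
  push Not at hc
  haveI : Fintype (orbitRel.Quotient (⊤ : Subgroup A) Ω) := Fintype.ofFinite _
  have hs := sum_fibre h K
  set u : orbitRel.Quotient (⊤ : Subgroup A) Ω := Quotient.mk'' x
  rw [← Finset.add_sum_erase _ _ (Finset.mem_univ u), stabilizer_out] at hs
  rw [Finset.sum_congr rfl (g := fun _ => 1), Finset.sum_const, smul_eq_mul, mul_one,
    Finset.card_erase_of_mem (Finset.mem_univ _), Finset.card_univ, ← Nat.card_eq_fintype_card] at hs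
  · have h2 := (card_eq_add h).2
    rw [orb] at h2
    omega
  · intro b hb
    rw [hc b.out fun a ha => Finset.ne_of_mem_erase hb ?_, Subgroup.index_top]
    rw [← Quotient.out_eq' b]
    exact (mk_eq_mk_iff _ _ _).2 ⟨a, Subgroup.mem_top _, ha⟩

/-- If a point is free, some point is fixed iff some nontrivial element fixes a point. -/
theorem exists_fixed_iff (h : EqFix A Ω f) {x : Ω} (hx : stabilizer A x = ⊥) :
    0 < f ↔ ∃ y : Ω, ∀ a : A, a • y = y := by
  obtain ⟨a, ha, -⟩ := exists_moved h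
  constructor
  · intro hf
    have hne : Nonempty (fixedBy Ω a) := by
      rw [← h.fix a ha] at hf
      exact (Nat.card_pos_iff.1 hf).1
    obtain ⟨y, hy⟩ := hne
    refine ⟨y, fixed_of_free h hx fun b hb => ha ?_⟩
    have : a ∈ stabilizer A (b • x) := mem_stabilizer_iff.2 (hb ▸ hy)
    rw [orbit_stabilizer, hx] at this
    exact Subgroup.mem_bot.1 this
  · rintro ⟨y, hy⟩
    rw [← h.fix a ha]
    exact Nat.card_pos_iff.2 ⟨⟨⟨y, hy a⟩⟩, inferInstance⟩

end CfsgLib.Known.MinIndexPSL
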