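import Cfsg.Agent.Lib.Known.Transvections
import Cfsg.Agent.Lib.Classical.SLGroup
import Cfsg.Agent.Lib.Known.MinIndexPSL.Count

/-!
Owner: helper12. Small permutation actions of `SL n F`: the transvection groups with given centre.
-/

set_option autoImplicit false
set_option linter.all false

namespace CfsgLib.Known.MinIndexPSL

open Matrix MulAction

variable {F : Type*} [Field F] {n : ℕ}

local notation "SLn" => Matrix.SpecialLinearGroup (Fin n) F

/-- The covectors vanishing at `c`. -/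
def perp (c : Fin n → F) : Submodule F (Fin n → F) where
  carrier := {φ | φ ⬝ᵥ c = 0}
  add_mem' {a b} ha hb := by
    show (a + b) ⬝ᵥ c = 0
    rw [add_dotProduct, ha, hb, add_zero]
  zero_mem' := zero_dotProduct c
  smul_mem' a φ h := by
    show (a • φ) ⬝ᵥ c = 0
    rw [smul_dotProduct, h, smul_zero]

theorem mem_perp {c φ : Fin n → F} : φ ∈ perp c ↔ φ ⬝ᵥ c = 0 := Iff.rfl

/-- The transvection with centre `c` and axis `φ`. -/
def tv (c φ : Fin n → F) (h : φ ⬝ᵥ c = 0) : SLn :=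
  ⟨1 + vecMulVec c φ, by rw [Transvections.det_one_add_vecMulVec', h, add_zero]⟩

theorem tv_smul {c φ : Fin n → F} (h : φ ⬝ᵥ c = 0) (x : Fin n → F) :
    tv c φ h • x = x + (φ ⬝ᵥ x) • c := by
  rw [Matrix.SpecialLinearGroup.smul_def, Matrix.smul_eq_mulVec]
  show (1 + vecMulVec c φ) *ᵥ x = _
  rw [Matrix.add_mulVec, Matrix.one_mulVec, Matrix.vecMulVec_mulVec, op_smul_eq_smul]

theorem sl_smul (g : SLn) (x : Fin n → F) : g • x = (g : Matrix (Fin n) (Fin n) F) *ᵥ x := by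
  rw [Matrix.SpecialLinearGroup.smul_def, Matrix.smul_eq_mulVec]

theorem tv_congr {c c' φ φ' : Fin n → F} (hc : c = c') (hφ : φ = φ') (h : φ ⬝ᵥ c = 0) :
    tv c φ h = tv c' φ' (hc ▸ hφ ▸ h) := by subst hc hφ; rfl

theorem tv_mul {c φ ψ : Fin n → F} (hφ : φ ⬝ᵥ c = 0) (hψ : ψ ⬝ᵥ c = 0) :
    tv c φ hφ * tv c ψ hψ = tv c (φ + ψ) (by rw [add_dotProduct, hφ, hψ, add_zero]) := by
  refine Classical.sl_ext_smul fun x => ?_
  rw [mul_smul, tv_smul, tv_smul, tv_smul, dotProduct_add, dotProduct_smul, hφ, add_dotProduct,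
    smul_zero, add_zero, add_smul]
  abel

theorem tv_zero (c : Fin n → F) : tv c 0 (zero_dotProduct c) = 1 := by
  refine Classical.sl_ext_smul fun x => ?_
  rw [tv_smul, zero_dotProduct, zero_smul, add_zero, one_smul]

theorem tv_inv {c φ : Fin n → F} (h : φ ⬝ᵥ c = 0) :
    (tv c φ h)⁻¹ = tv c (-φ) (by rw [neg_dotProduct, h, neg_zero]) := by
  rw [inv_eq_iff_mul_eq_one, tv_mul]
  simp only [add_neg_cancel, tv_zero]

theorem tv_scalar {c φ : Fin n → F} (a : F) (h : φ ⬝ᵥ c = 0) :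
    tv (a • c) φ (by rw [dotProduct_smul, h, smul_zero]) =
      tv c (a • φ) (by rw [smul_dotProduct, h, smul_zero]) := by
  refine Classical.sl_ext_smul fun x => ?_
  rw [tv_smul, tv_smul, smul_dotProduct, smul_eq_mul, smul_smul, mul_comm]

/-- The covector transported by `g`. -/
def cov (g : SLn) (φ : Fin n → F) : Fin n → F :=
  φ ᵥ* ((g⁻¹ : SLn) : Matrix (Fin n) (Fin n) F)

theorem cov_dot (g : SLn) (φ x : Fin n → F) : cov g φ ⬝ᵥ x = φ ⬝ᵥ (g⁻¹ • x) := by
  rw [cov, sl_smul, Matrix.dotProduct_mulVec]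

theorem cov_dot_smul (g : SLn) (φ x : Fin n → F) : cov g φ ⬝ᵥ (g • x) = φ ⬝ᵥ x := by
  rw [cov_dot, inv_smul_smul]

theorem conj_tv (g : SLn) {c φ : Fin n → F} (h : φ ⬝ᵥ c = 0) :
    g * tv c φ h * g⁻¹ = tv (g • c) (cov g φ) (by rw [cov_dot_smul, h]) := by
  refine Classical.sl_ext_smul fun x => ?_
  rw [mul_smul, mul_smul, tv_smul, tv_smul, cov_dot, smul_add, smul_inv_smul, smul_comm g]

theorem cov_tv {d ψ : Fin n → F} (h : ψ ⬝ᵥ d = 0) (φ : Fin n → F) :
    cov (tv d ψ h) φ = φ - (φ ⬝ᵥ d) • ψ := by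
  rw [cov, tv_inv h]
  show φ ᵥ* (1 + vecMulVec d (-ψ)) = _
  rw [Matrix.vecMul_add, Matrix.vecMul_one, Matrix.vecMul_vecMulVec, smul_neg, sub_eq_add_neg]

theorem exists_dot_ne {S : Submodule F (Fin n → F)} {x : Fin n → F} (hx : x ∉ S) :
    ∃ d : Fin n → F, (∀ s ∈ S, s ⬝ᵥ d = 0) ∧ x ⬝ᵥ d ≠ 0 := by
  obtain ⟨f, hf, hf'⟩ := S.exists_dual_map_eq_bot_of_notMem hx inferInstance
  have key : ∀ v : Fin n → F, v ⬝ᵥ (fun i => f (Pi.single i 1)) = f v := fun v => by
    conv_rhs => rw [pi_eq_sum_univ' v, map_sum]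
    exact Finset.sum_congr rfl fun i _ => by rw [map_smul, smul_eq_mul]
  refine ⟨fun i => f (Pi.single i 1), fun s hs => ?_, by rwa [key]⟩
  rw [key]
  exact (Submodule.mem_bot F).1 (hf' ▸ Submodule.mem_map_of_mem hs)

/-- Two independent vectors are separated by a third. -/
theorem exists_dot_pair {ψ y : Fin n → F} (hy : y ∉ F ∙ ψ) (a : F) :
    ∃ d : Fin n → F, ψ ⬝ᵥ d = 0 ∧ y ⬝ᵥ d = a := by
  obtain ⟨d, hd, hyd⟩ := exists_dot_ne hy
  refine ⟨(a / (y ⬝ᵥ d)) • d, ?_, ?_⟩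
  · rw [dotProduct_smul, hd ψ (Submodule.mem_span_singleton_self ψ), smul_zero]
  · rw [dotProduct_smul, smul_eq_mul, div_mul_cancel₀ _ hyd]

theorem exists_smul_vec (hn : 2 ≤ n) {v w : Fin n → F} (hv : v ≠ 0) (hw : w ≠ 0) :
    ∃ g : SLn, g • v = w := by
  obtain ⟨m, rfl⟩ := Nat.exists_eq_add_of_le' hn
  exact Classical.exists_smul_eq_SL hv hw

theorem isTransvection_tv {c φ : Fin n → F} (hc : c ≠ 0) (hφ : φ ≠ 0) (h : φ ⬝ᵥ c = 0) :
    Cfsg.IsTransvection ((tv c φ h : SLn) : Matrix (Fin n) (Fin n) F) := by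
  have e : ((tv c φ h : SLn) : Matrix (Fin n) (Fin n) F) - 1 = vecMulVec c φ := by simp [tv]
  refine ⟨?_, ?_⟩
  · rw [e]
    refine le_antisymm (Matrix.rank_vecMulVec_le c φ) (Nat.one_le_iff_ne_zero.2 fun h0 => ?_)
    rw [Matrix.rank, Submodule.finrank_eq_zero, LinearMap.range_eq_bot] at h0
    obtain ⟨j, hj⟩ := Function.ne_iff.1 hφ
    have := LinearMap.congr_fun h0 (Pi.single j 1)
    simp [Matrix.vecMulVec_mulVec] at this
    obtain ⟨i, hi⟩ := Function.ne_iff.1 hc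
    have := congrFun this i
    simp [Matrix.col, Matrix.vecMulVec_apply] at this
    exact this.elim hi hj
  · rw [e, vecMulVec_mul_vecMulVec, h]
    simp

/-- The abelian group of transvections with centre `c`. -/
def Tv (c : Fin n → F) : Type _ := Multiplicative (perp c)

instance (c : Fin n → F) : CommGroup (Tv c) := inferInstanceAs (CommGroup (Multiplicative (perp c)))

instance [Finite F] (c : Fin n → F) : Finite (Tv c) := inferInstanceAs (Finite (Multiplicative (perp c)))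

/-- The element of `Tv c` of a covector. -/
def Tv.mk (c φ : Fin n → F) (h : φ ⬝ᵥ c = 0) : Tv c := Multiplicative.ofAdd (⟨φ, h⟩ : perp c)

/-- The covector of an element of `Tv c`. -/
def Tv.val {c : Fin n → F} (a : Tv c) : Fin n → F := ((Multiplicative.toAdd a : perp c) : Fin n → F)

theorem Tv.val_dot {c : Fin n → F} (a : Tv c) : a.val ⬝ᵥ c = 0 := (Multiplicative.toAdd a : perp c).2

theorem Tv.val_mk {c φ : Fin n → F} (h : φ ⬝ᵥ c = 0) : (Tv.mk c φ h).val = φ := rfl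

theorem Tv.val_mul {c : Fin n → F} (a b : Tv c) : (a * b).val = a.val + b.val := rfl

theorem Tv.ext {c : Fin n → F} {a b : Tv c} (h : a.val = b.val) : a = b := Subtype.ext h

/-- The transvections of `Tv c` in `SL`. -/
def Tv.hom (c : Fin n → F) : Tv c →* SLn where
  toFun a := tv c a.val a.val_dot
  map_one' := tv_zero c
  map_mul' a b := (tv_mul a.val_dot b.val_dot).symm

section Action

variable {Ω : Type*} [MulAction (Matrix.SpecialLinearGroup (Fin n) F) Ω]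

instance (c : Fin n → F) : MulAction (Tv c) Ω := MulAction.compHom Ω (Tv.hom c)

theorem Tv.smul_def {c : Fin n → F} (a : Tv c) (x : Ω) : a • x = tv c a.val a.val_dot • x := rfl

/-- The covectors of the transvections with centre `c` fixing `x`. -/
def fixR (c : Fin n → F) (x : Ω) : AddSubgroup (Fin n → F) where
  carrier := {φ | ∃ h : φ ⬝ᵥ c = 0, tv c φ h • x = x}
  add_mem' := by
    rintro a b ⟨ha, hax⟩ ⟨hb, hbx⟩
    exact ⟨by rw [add_dotProduct, ha, hb, add_zero], by rw [← tv_mul ha hb, mul_smul, hbx, hax]⟩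
  zero_mem' := ⟨zero_dotProduct c, by rw [tv_zero, one_smul]⟩
  neg_mem' := by
    rintro a ⟨ha, hax⟩
    exact ⟨by rw [neg_dotProduct, ha, neg_zero], by rw [← tv_inv ha, inv_smul_eq_iff, hax]⟩

theorem mem_fixR {c φ : Fin n → F} {x : Ω} :
    φ ∈ fixR c x ↔ ∃ h : φ ⬝ᵥ c = 0, tv c φ h • x = x := Iff.rfl

theorem fixR_le {c φ : Fin n → F} {x : Ω} (h : φ ∈ fixR c x) : φ ⬝ᵥ c = 0 := h.1

theorem mem_stabilizer_Tv {c : Fin n → F} {x : Ω} (a : Tv c) :
    a ∈ stabilizer (Tv c) x ↔ a.val ∈ fixR c x :=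
  ⟨fun h => ⟨a.val_dot, h⟩, fun ⟨_, h⟩ => h⟩

/-- Conjugation transports the fixing covectors. -/
theorem cov_mem_fixR {c φ : Fin n → F} {x : Ω} (g : SLn) (hφ : φ ∈ fixR c x) :
    cov g φ ∈ fixR (g • c) (g • x) := by
  obtain ⟨h, hx⟩ := hφ
  refine ⟨by rw [cov_dot_smul, h], ?_⟩
  rw [← conj_tv g h, mul_smul, mul_smul, inv_smul_smul, hx]

theorem smul_mem_fixR {c φ : Fin n → F} {x : Ω} {a : F} (hφ : φ ∈ fixR (a • c) x) (ha : a ≠ 0) :
    a • φ ∈ fixR c x := by
  obtain ⟨h, hx⟩ := hφ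
  have h' : φ ⬝ᵥ c = 0 := by
    rw [dotProduct_smul, smul_eq_mul] at h
    exact (mul_eq_zero.1 h).resolve_left ha
  exact ⟨by rw [smul_dotProduct, h', smul_zero], by rw [← tv_scalar a h']; exact hx⟩

theorem isConj_tv (hn : 3 ≤ n) {c c' φ φ' : Fin n → F} (hc : c ≠ 0) (hc' : c' ≠ 0) (hφ : φ ≠ 0)
    (hφ' : φ' ≠ 0) (h : φ ⬝ᵥ c = 0) (h' : φ' ⬝ᵥ c' = 0) :
    IsConj (tv c φ h : SLn) (tv c' φ' h') :=
  Transvections.isConj_sl hn _ _ (isTransvection_tv hc hφ h) (isTransvection_tv hc' hφ' h')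

theorem card_fixedBy_eq_of_isConj {a b : SLn} (h : IsConj a b) :
    Nat.card (fixedBy Ω a) = Nat.card (fixedBy Ω b) := by
  obtain ⟨g, hg⟩ := isConj_iff.1 h
  refine Nat.card_congr ((MulAction.toPerm g : Equiv.Perm Ω).subtypeEquiv fun x => ?_)
  show a • x = x ↔ b • (g • x) = g • x
  rw [← hg, mul_smul, mul_smul, inv_smul_smul, smul_left_cancel_iff]

theorem transvection_eq_tv {i j : Fin n} (hij : i ≠ j) (a : F) :
    (Matrix.SpecialLinearGroup.transvection hij a : SLn) =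
      tv (Pi.single i 1) (Pi.single j a) (by simp [hij.symm]) := by
  refine Classical.sl_ext_smul fun x => funext fun k => ?_
  rw [Classical.transvection_smul_apply, tv_smul, single_dotProduct]
  by_cases hk : k = i <;> simp [hk]

theorem eq_top_of_all_tv (hn : 2 ≤ n) (H : Subgroup SLn)
    (h : ∀ (c φ : Fin n → F) (hh : φ ⬝ᵥ c = 0), c ≠ 0 → tv c φ hh ∈ H) : H = ⊤ := by
  have : Nontrivial (Fin n) := Fin.nontrivial_iff_two_le.2 hn
  refine Classical.closure_transvection_eq_top H fun i j hij a => ?_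
  rw [transvection_eq_tv]
  exact h _ _ _ (Pi.single_ne_zero_iff.2 one_ne_zero)

end Action

end CfsgLib.Known.MinIndexPSL
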