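import Cfsg.Agent.Lib.Known.MinIndexPSL.Planes

/-!
Owner: helper12. In a small action of `SL n F` no nontrivial transvection group with given centre fixes a
point, so all these groups act freely.
-/

set_option autoImplicit false
set_option linter.all false

namespace CfsgLib.Known.MinIndexPSL

open Matrix MulAction

variable {F : Type*} [Field F] [Finite F] {n : ℕ}
variable {Ω : Type*} [Finite Ω] [MulAction (Matrix.SpecialLinearGroup (Fin n) F) Ω]

local notation "SLn" => Matrix.SpecialLinearGroup (Fin n) F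

omit [Finite F] [Finite Ω] in
theorem smul_mem_centres {c : Fin n → F} {x : Ω} (g : SLn)
    (h : ∀ (φ : Fin n → F) (hh : φ ⬝ᵥ c = 0), tv c φ hh • x = x)
    (φ : Fin n → F) (hh : φ ⬝ᵥ (g • c) = 0) : tv (g • c) φ hh • (g • x) = g • x := by
  have h1 : cov g⁻¹ φ ⬝ᵥ c = 0 := by rw [cov_dot, inv_inv, hh]
  have h2 := conj_tv g⁻¹ hh
  rw [inv_inv] at h2
  have h3 : g⁻¹ * tv (g • c) φ hh * g = tv c (cov g⁻¹ φ) h1 :=
    h2.trans (tv_congr (inv_smul_smul g c) rfl _)
  have h4 := h _ h1
  rwa [← h3, mul_smul, mul_smul, inv_smul_eq_iff] at h4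

/-- The centres of the transvection groups fixing a point. -/
def Small.centres (hS : Small F n Ω) (x : Ω) : Submodule F (Fin n → F) where
  carrier := {c | ∀ (φ : Fin n → F) (h : φ ⬝ᵥ c = 0), tv c φ h • x = x}
  zero_mem' φ h := by
    have : tv (0 : Fin n → F) φ h = 1 := Classical.sl_ext_smul fun y => by
      rw [tv_smul, smul_zero, add_zero, one_smul]
    rw [this, one_smul]
  smul_mem' a c hc φ h := by
    rcases eq_or_ne a 0 with rfl | ha
    · have : tv ((0 : F) • c) φ h = 1 := Classical.sl_ext_smul fun y => by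
        rw [tv_smul, zero_smul, smul_zero, add_zero, one_smul]
      rw [this, one_smul]
    · have h' : φ ⬝ᵥ c = 0 := by
        rw [dotProduct_smul, smul_eq_mul] at h
        exact (mul_eq_zero.1 h).resolve_left ha
      rw [tv_scalar a h']
      exact hc _ _
  add_mem' {a b} ha hb φ h := by
    rcases eq_or_ne (a + b) 0 with h0 | h0
    · have : tv (a + b) φ h = 1 := Classical.sl_ext_smul fun y => by
        rw [tv_smul, h0, smul_zero, add_zero, one_smul]
      rw [this, one_smul]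
    obtain ⟨z, hz⟩ := exists_notMem_pair hS.three a b
    obtain ⟨ψ, h1, h2⟩ := exists_dot_ne' hz
    have hψa := h1 a (left_mem_pair a b)
    have hψb := h1 b (right_mem_pair a b)
    have hab : ψ ⬝ᵥ (a + b) = 0 := by rw [dotProduct_add, hψa, hψb, add_zero]
    have e : tv (a + b) ψ hab = tv a ψ hψa * tv b ψ hψb := Classical.sl_ext_smul fun y => by
      rw [mul_smul, tv_smul, tv_smul, tv_smul, dotProduct_add, dotProduct_smul, hψb, smul_zero,
        add_zero, smul_add, add_assoc, add_comm ((ψ ⬝ᵥ y) • a)]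
    have hne : fixR (a + b) x ≠ ⊥ := fun hbot => h2 (by
      have : ψ ∈ fixR (a + b) x := ⟨hab, by rw [e, mul_smul, hb ψ hψb, ha ψ hψa]⟩
      rw [hbot, AddSubgroup.mem_bot] at this
      rw [this, zero_dotProduct])
    exact (hS.noProper h0 x hne h).2

theorem Small.mem_centres (hS : Small F n Ω) {x : Ω} {c : Fin n → F} :
    c ∈ hS.centres x ↔ ∀ (φ : Fin n → F) (h : φ ⬝ᵥ c = 0), tv c φ h • x = x := Iff.rfl

theorem Small.smul_centres (hS : Small F n Ω) (g : SLn) (x : Ω) {c : Fin n → F} :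
    g • c ∈ hS.centres (g • x) ↔ c ∈ hS.centres x := by
  refine ⟨fun h => ?_, fun h => smul_mem_centres g h⟩
  have h1 : g⁻¹ • g • c ∈ hS.centres (g⁻¹ • g • x) := smul_mem_centres g⁻¹ h
  rwa [inv_smul_smul, inv_smul_smul] at h1

omit [Finite F] in
theorem exists_smul_of_same_kernel {μ ν : Fin n → F} (hν : ν ≠ 0)
    (h : ∀ y : Fin n → F, μ ⬝ᵥ y = 0 → ν ⬝ᵥ y = 0) : ∃ a : F, a ≠ 0 ∧ ν = a • μ := by
  have hμ : μ ≠ 0 := fun e => hν (dotProduct_eq_zero _ fun y => h y (by rw [e, zero_dotProduct]))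
  obtain ⟨y₀, hy₀⟩ : ∃ y₀ : Fin n → F, μ ⬝ᵥ y₀ ≠ 0 := by
    by_contra hc
    push Not at hc
    exact hμ (dotProduct_eq_zero _ hc)
  have key : ν = (ν ⬝ᵥ y₀ / (μ ⬝ᵥ y₀)) • μ := by
    refine dotProduct_eq _ _ fun y => ?_
    have h1 := h (y - (μ ⬝ᵥ y / (μ ⬝ᵥ y₀)) • y₀) (by
      rw [dotProduct_sub, dotProduct_smul, smul_eq_mul, div_mul_cancel₀ _ hy₀, sub_self])
    rw [dotProduct_sub, dotProduct_smul, smul_eq_mul, sub_eq_zero] at h1
    rw [h1, smul_dotProduct, smul_eq_mul]
    field_simp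
  refine ⟨_, fun e => hν ?_, key⟩
  rw [key, e, zero_smul]

/-- In a small action all transvection groups with given centre act freely. -/
theorem Small.free (hS : Small F n Ω) {c : Fin n → F} (hc : c ≠ 0) (x : Ω) : fixR c x = ⊥ := by
  classical
  haveI := hS.trans
  haveI := Fintype.ofFinite F
  haveI := Fintype.ofFinite Ω
  have hn := hS.three
  by_contra hne
  set A := hS.centres x with hA
  have hcA : c ∈ A := fun φ h => (hS.noProper hc x hne h).2
  have hAtop : A ≠ ⊤ := by
    intro htop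
    have h1 : stabilizer SLn x = ⊤ := eq_top_of_all_tv (by omega) _ fun d φ h hd =>
      mem_stabilizer_iff.2 ((htop ▸ Submodule.mem_top : d ∈ A) φ h)
    obtain ⟨g, y, hy⟩ := hS.moved
    obtain ⟨k, rfl⟩ := MulAction.exists_smul_eq SLn x y
    have h2 : ∀ k : SLn, k • x = x := fun k => mem_stabilizer_iff.1 (h1 ▸ Subgroup.mem_top k)
    exact hy (by rw [h2 k, h2 g])
  by_cases hcase : ∃ e : Fin n → F, e ∉ A ∧ A ⊔ (F ∙ e) ≠ ⊤
  · obtain ⟨e, he, hsup⟩ := hcase
    have he0 : e ≠ 0 := fun h => he (h ▸ A.zero_mem)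
    have hce : c ∉ F ∙ e := fun h => by
      obtain ⟨a, ha⟩ := Submodule.mem_span_singleton.1 h
      have ha0 : a ≠ 0 := fun h0 => hc (by rw [← ha, h0, zero_smul])
      exact he ((A.smul_mem_iff ha0).1 (ha ▸ hcA))
    obtain ⟨φ₀, h01, h02⟩ := exists_dot_ne' hce
    have h0e := h01 e (Submodule.mem_span_singleton_self e)
    obtain ⟨z, hz⟩ : ∃ z, z ∉ A ⊔ (F ∙ e) := by
      by_contra hc'
      push Not at hc'
      exact hsup (Submodule.eq_top_iff'.2 hc')
    obtain ⟨ψ, h1, h2⟩ := exists_dot_ne' hz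
    have hψe := h1 e (Submodule.mem_sup_right (Submodule.mem_span_singleton_self e))
    let M : Subgroup SLn :=
      { carrier := {g | ∀ y, g • y ∈ A ↔ y ∈ A}
        mul_mem' := fun {a b} ha hb y => by rw [mul_smul, ha, hb]
        one_mem' := fun y => by rw [one_smul]
        inv_mem' := fun {a} ha y => by rw [← ha (a⁻¹ • y), smul_inv_smul] }
    have hM : ∀ g : SLn, g ∈ M ↔ ∀ y, g • y ∈ A ↔ y ∈ A := fun g => Iff.rfl
    have hφM : tv e φ₀ h0e ∉ M := fun hm => he (by
      have h3 := ((hM _).1 hm c).2 hcA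
      rw [tv_smul] at h3
      have h4 := sub_mem h3 hcA
      rw [add_sub_cancel_left] at h4
      exact (A.smul_mem_iff h02).1 h4)
    have hψM : tv e ψ hψe ∈ M := by
      have hin : ∀ (ρ : Fin n → F) (hρ : ρ ⬝ᵥ e = 0), (∀ a ∈ A, ρ ⬝ᵥ a = 0) → ∀ y ∈ A,
          tv e ρ hρ • y ∈ A := fun ρ hρ h y hy => by
        rw [tv_smul, h y hy, zero_smul, add_zero]; exact hy
      refine (hM _).2 fun y => ⟨fun hy => ?_, hin ψ hψe (fun a ha => h1 a (Submodule.mem_sup_left ha)) y⟩
      have h3 := hin (-ψ) (by rw [neg_dotProduct, hψe, neg_zero])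
        (fun a ha => by rw [neg_dotProduct, h1 a (Submodule.mem_sup_left ha), neg_zero]) _ hy
      rwa [← tv_inv hψe, inv_smul_smul] at h3
    have hle : stabilizer SLn x ≤ M := fun g hg y => by
      have h3 := hS.smul_centres g x (c := y)
      rwa [mem_stabilizer_iff.1 hg] at h3
    have hS' : Small F n (SLn ⧸ M) := by
      refine ⟨hn, inferInstance, lt_of_le_of_lt (Nat.mul_le_mul_right _ ?_) hS.small,
        ⟨tv e φ₀ h0e, QuotientGroup.mk 1, fun h => hφM ?_⟩⟩
      · rw [← Subgroup.index_eq_card, ← index_stabilizer_of_transitive SLn x]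
        exact Nat.le_of_dvd (Nat.pos_of_ne_zero Subgroup.index_ne_zero_of_finite)
          (Subgroup.index_dvd_of_le hle)
      · rw [MulAction.Quotient.smul_mk, smul_eq_mul, mul_one, QuotientGroup.eq] at h
        simpa using M.inv_mem h
    have hmk : ∀ g : SLn, g • (QuotientGroup.mk 1 : SLn ⧸ M) = QuotientGroup.mk 1 ↔ g ∈ M := by
      intro g
      rw [MulAction.Quotient.smul_mk, smul_eq_mul, mul_one, QuotientGroup.eq, mul_one, inv_mem_iff]
    have hne' : fixR e (QuotientGroup.mk 1 : SLn ⧸ M) ≠ ⊥ := fun hbot => h2 (by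
      have : ψ ∈ fixR e (QuotientGroup.mk 1 : SLn ⧸ M) := ⟨hψe, (hmk _).2 hψM⟩
      rw [hbot, AddSubgroup.mem_bot] at this
      rw [this, zero_dotProduct])
    exact hφM ((hmk _).1 (hS'.noProper he0 _ hne' h0e).2)
  · push Not at hcase
    obtain ⟨e, he⟩ : ∃ e, e ∉ A := by
      by_contra hc'
      push Not at hc'
      exact hAtop (Submodule.eq_top_iff'.2 hc')
    obtain ⟨l, hl, hle⟩ := exists_dot_ne' he
    have hker : ∀ y, y ∈ A ↔ l ⬝ᵥ y = 0 := fun y => ⟨hl y, fun hy => by
      have hm : y ∈ A ⊔ (F ∙ e) := (hcase e he).symm ▸ Submodule.mem_top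
      obtain ⟨a, ha, b, hb, rfl⟩ := Submodule.mem_sup.1 hm
      obtain ⟨t, rfl⟩ := Submodule.mem_span_singleton.1 hb
      rw [dotProduct_add, hl a ha, zero_add, dotProduct_smul, smul_eq_mul] at hy
      rw [(mul_eq_zero.1 hy).resolve_right hle, zero_smul, add_zero]
      exact ha⟩
    have hl0 : l ≠ 0 := fun h => hle (by rw [h, zero_dotProduct])
    have htr : ∀ μ : Fin n → F, μ ≠ 0 → ∃ g : SLn, cov g l = μ := fun μ hμ => by
      obtain ⟨h, hh⟩ := exists_smul_vec (by omega) hl0 hμ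
      refine ⟨h.transpose⁻¹, ?_⟩
      rw [cov, inv_inv, ← hh, sl_smul]
      exact Matrix.vecMul_transpose _ _
    choose! g hg using htr
    have hcard : ((Finset.univ : Finset (Fin n → F)).erase 0).card ≤
        (Fintype.card F - 1) * (((Finset.univ : Finset (Fin n → F)).erase 0).image fun μ => g μ • x).card := by
      refine Finset.card_le_mul_card_image _ _ fun b hb => ?_
      obtain ⟨μ, hμ, rfl⟩ := Finset.mem_image.1 hb
      refine le_trans (Finset.card_le_card (t := ((Finset.univ : Finset F).erase 0).image (· • μ))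
        fun ν hν => ?_) (Finset.card_image_le.trans (by simp))
      obtain ⟨hν1, hν2⟩ := Finset.mem_filter.1 hν
      have hμ0 := Finset.ne_of_mem_erase hμ
      have hν0 := Finset.ne_of_mem_erase hν1
      obtain ⟨a, ha, rfl⟩ := exists_smul_of_same_kernel hν0 (μ := μ) fun y hy => by
        rw [← hg μ hμ0, cov_dot, ← hker] at hy
        have h3 := (hS.smul_centres (g μ) x).2 hy
        rw [smul_inv_smul, ← hν2, ← smul_inv_smul (g ν) y, hS.smul_centres, hker, ← cov_dot,
          hg ν hν0] at h3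
        exact h3
      exact Finset.mem_image.2 ⟨a, Finset.mem_erase.2 ⟨ha, Finset.mem_univ _⟩, rfl⟩
    rw [Finset.card_erase_of_mem (Finset.mem_univ _), Finset.card_univ, Fintype.card_fun,
      Fintype.card_fin] at hcard
    have h3 := hcard.trans (Nat.mul_le_mul_left _ (Finset.card_le_univ _))
    have h4 := hS.small
    rw [Nat.card_eq_fintype_card, Nat.card_eq_fintype_card] at h4
    rw [mul_comm] at h3
    omega

end CfsgLib.Known.MinIndexPSL
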