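import Cfsg.Agent.Lib.Known.MinIndexPSL.Regular

/-!
Owner: helper12. The least index of a proper subgroup of `PSL n F`, `n ≥ 3`.
-/

set_option autoImplicit false
set_option linter.all false

namespace CfsgLib.Known.MinIndexPSL

open Matrix MulAction

variable {F : Type*} [Field F] [Finite F] {n : ℕ}

/-- A proper subgroup of `SL n F`, `n ≥ 3`, has index at least the number of points. -/
theorem card_le_index (hn : 3 ≤ n) (hexc : ¬ (n = 4 ∧ Nat.card F = 2))
    (H : Subgroup (Matrix.SpecialLinearGroup (Fin n) F)) (hH : H ≠ ⊤) :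
    Nat.card F ^ n - 1 ≤ H.index * (Nat.card F - 1) := by
  by_contra hsmall
  obtain ⟨g, hg⟩ : ∃ g, g ∉ H := by
    by_contra hc
    push Not at hc
    exact hH ((Subgroup.eq_top_iff' H).2 hc)
  have hS : Small F n (Matrix.SpecialLinearGroup (Fin n) F ⧸ H) := by
    refine ⟨hn, inferInstance, by rw [← Subgroup.index_eq_card]; omega,
      ⟨g, QuotientGroup.mk 1, fun h => hg ?_⟩⟩
    rw [MulAction.Quotient.smul_mk, smul_eq_mul, mul_one, QuotientGroup.eq, mul_one, inv_mem_iff] at h
    exact h
  exact hS.false_of_ne hexc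

end CfsgLib.Known.MinIndexPSL
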