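import Cfsg.Agent.Lib.Known.MinIndexPSL.Structure

/-!
Owner: helper12. In a small action of `SL n F` the transvections with given centre fixing a point form
nothing or everything.
-/

set_option autoImplicit false
set_option linter.all false

namespace CfsgLib.Known.MinIndexPSL

open Matrix MulAction

variable {F : Type*} [Field F] [Finite F] {n : ℕ}

/-- The span of two vectors. -/
def pair (a b : Fin n → F) : Submodule F (Fin n → F) := (F ∙ a) ⊔ (F ∙ b)

omit [Finite F] in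
theorem left_mem_pair (a b : Fin n → F) : a ∈ pair a b :=
  Submodule.mem_sup_left (Submodule.mem_span_singleton_self a)

omit [Finite F] in
theorem right_mem_pair (a b : Fin n → F) : b ∈ pair a b :=
  Submodule.mem_sup_right (Submodule.mem_span_singleton_self b)

omit [Finite F] in
theorem mem_pair {a b x : Fin n → F} : x ∈ pair a b ↔ ∃ s t : F, s • a + t • b = x := by
  simp only [pair, Submodule.mem_sup, Submodule.mem_span_singleton]
  constructor
  · rintro ⟨_, ⟨s, rfl⟩, _, ⟨t, rfl⟩, e⟩; exact ⟨s, t, e⟩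
  · rintro ⟨s, t, e⟩; exact ⟨_, ⟨s, rfl⟩, _, ⟨t, rfl⟩, e⟩

theorem finrank_pair_le (a b : Fin n → F) : Module.finrank F (pair a b) ≤ 2 := by
  refine (Submodule.finrank_add_le_finrank_add_finrank (F ∙ a) (F ∙ b)).trans ?_
  have h : ∀ v : Fin n → F, Module.finrank F (F ∙ v) ≤ 1 := fun v => by
    refine (finrank_span_le_card ({v} : Set (Fin n → F))).trans ?_
    simp
  have := h a
  have := h b
  omega

theorem pair_eq {a b x y : Fin n → F} (hx : x ∈ pair a b) (hy : y ∈ pair a b) (hx0 : x ≠ 0)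
    (hyx : y ∉ F ∙ x) : pair x y = pair a b := by
  have hle : pair x y ≤ pair a b := sup_le ((Submodule.span_singleton_le_iff_mem _ _).2 hx)
    ((Submodule.span_singleton_le_iff_mem _ _).2 hy)
  refine Submodule.eq_of_le_of_finrank_le hle ((finrank_pair_le a b).trans ?_)
  have hlt : F ∙ x < pair x y := lt_of_le_of_ne le_sup_left fun e => hyx (e ▸ right_mem_pair x y)
  have := Submodule.finrank_lt_finrank_of_lt hlt
  rw [finrank_span_singleton hx0] at this
  omega

theorem exists_notMem_pair (hn : 3 ≤ n) (a b : Fin n → F) : ∃ x : Fin n → F, x ∉ pair a b := by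
  by_contra h
  push Not at h
  have h1 := finrank_pair_le a b
  rw [Submodule.eq_top_iff'.2 h, finrank_top, Module.finrank_fin_fun] at h1
  omega

omit [Finite F] in
theorem exists_dot_ne' {S : Submodule F (Fin n → F)} {x : Fin n → F} (hx : x ∉ S) :
    ∃ ψ : Fin n → F, (∀ s ∈ S, ψ ⬝ᵥ s = 0) ∧ ψ ⬝ᵥ x ≠ 0 := by
  obtain ⟨ψ, h1, h2⟩ := exists_dot_ne hx
  exact ⟨ψ, fun s hs => by rw [dotProduct_comm]; exact h1 s hs, by rwa [dotProduct_comm]⟩

/-- The transvections of `Tv c` with axis through `d`. -/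
def plane (c d : Fin n → F) : Subgroup (Tv c) where
  carrier := {a | a.val ⬝ᵥ d = 0}
  mul_mem' {a b} ha hb := by
    show (a * b).val ⬝ᵥ d = 0
    rw [Tv.val_mul, add_dotProduct, ha, hb, add_zero]
  one_mem' := zero_dotProduct d
  inv_mem' {a} ha := by
    show (-a.val) ⬝ᵥ d = 0
    rw [neg_dotProduct, ha, neg_zero]

omit [Finite F] in
theorem mem_plane {c d : Fin n → F} (a : Tv c) : a ∈ plane c d ↔ a.val ⬝ᵥ d = 0 := Iff.rfl

omit [Finite F] in
theorem plane_ne_top {c d : Fin n → F} (hd : d ∉ F ∙ c) : plane c d ≠ ⊤ := by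
  intro h
  obtain ⟨ψ, h1, h2⟩ := exists_dot_ne' hd
  have := (Subgroup.eq_top_iff' _).1 h (Tv.mk c ψ (h1 c (Submodule.mem_span_singleton_self c)))
  exact h2 (by rwa [mem_plane, Tv.val_mk] at this)

variable {Ω : Type*} [Finite Ω] [MulAction (Matrix.SpecialLinearGroup (Fin n) F) Ω]

omit [Finite F] [Finite Ω] in
theorem serving_mem {c d e : Fin n → F} {x : Ω}
    (hx : ∀ φ : Fin n → F, φ ⬝ᵥ c = 0 → φ ⬝ᵥ e = 0 → φ ∈ fixR c x)
    (hd : d ∉ pair c e) : plane c d ⊔ stabilizer (Tv c) x = ⊤ := by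
  obtain ⟨ψ, h1, h2⟩ := exists_dot_ne' hd
  rw [Subgroup.eq_top_iff']
  intro a
  have hψc := h1 c (left_mem_pair c e)
  have hψe := h1 e (right_mem_pair c e)
  set t := (a.val ⬝ᵥ d) / (ψ ⬝ᵥ d) with ht
  have hk : (a.val - t • ψ) ⬝ᵥ c = 0 := by
    rw [sub_dotProduct, smul_dotProduct, a.val_dot, hψc, smul_zero, sub_zero]
  have htc : (t • ψ) ⬝ᵥ c = 0 := by rw [smul_dotProduct, hψc, smul_zero]
  have e1 : a = Tv.mk c (a.val - t • ψ) hk * Tv.mk c (t • ψ) htc := Tv.ext (by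
    rw [Tv.val_mul, Tv.val_mk, Tv.val_mk, sub_add_cancel])
  rw [e1]
  refine Subgroup.mul_mem_sup ?_ ((mem_stabilizer_Tv _).2 (hx _ htc ?_))
  · rw [mem_plane, Tv.val_mk, sub_dotProduct, smul_dotProduct, smul_eq_mul, ht,
      div_mul_cancel₀ _ h2, sub_self]
  · rw [Tv.val_mk, smul_dotProduct, hψe, smul_zero]

theorem count_bound [Fintype F] {n f : ℕ} (hn : 1 ≤ n)
    (h : (f + Fintype.card F ^ (n - 1)) * (Fintype.card F - 1) < Fintype.card F ^ n - 1) :
    (f + 1) * (Fintype.card F ^ 2 - Fintype.card F) ≤ Fintype.card F ^ n - Fintype.card F := by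
  obtain ⟨p, hp⟩ : ∃ p, Fintype.card F = p + 2 :=
    ⟨Fintype.card F - 2, by have := Fintype.one_lt_card (α := F); omega⟩
  obtain ⟨m, rfl⟩ := Nat.exists_eq_add_of_le' hn
  rw [hp] at h ⊢
  have hp1 : p + 2 - 1 = p + 1 := rfl
  simp only [Nat.add_sub_cancel, hp1] at h
  obtain ⟨k, hk⟩ : p + 1 ∣ (p + 2) ^ m - 1 := hp1 ▸ Nat.sub_one_dvd_pow_sub_one _ m
  have hpos : 0 < (p + 2) ^ m := pow_pos (by omega) m
  rw [pow_succ _ m] at h ⊢
  generalize hQ : (p + 2) ^ m = Q at h hk hpos ⊢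
  have hQk : Q = (p + 1) * k + 1 := by omega
  have hfk : f + 1 ≤ k := by
    by_contra hc
    have h1 := Nat.mul_le_mul_left (p + 1) (show k ≤ f by omega)
    have h2 : (f + Q) * (p + 1) + 2 ≤ Q * (p + 2) := by omega
    nlinarith
  have h2 : (p + 2) ^ 2 - (p + 2) = (p + 1) * (p + 2) := by
    rw [Nat.sub_eq_iff_eq_add (by nlinarith)]; ring
  rw [h2]
  calc (f + 1) * ((p + 1) * (p + 2)) ≤ k * ((p + 1) * (p + 2)) :=
        Nat.mul_le_mul_right _ hfk
    _ = ((p + 1) * k) * (p + 2) := by ring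
    _ = Q * (p + 2) - (p + 2) := by rw [← hk, Nat.sub_mul, one_mul]

theorem Small.never_free_of_proper (hS : Small F n Ω) {c₀ : Fin n → F} (hc₀ : c₀ ≠ 0) {x₀ : Ω}
    (hne : fixR c₀ x₀ ≠ ⊥) {φ₀ : Fin n → F} (hφc : φ₀ ⬝ᵥ c₀ = 0) (hφ : φ₀ ∉ fixR c₀ x₀)
    {c : Fin n → F} (hc : c ≠ 0) (y : Ω) : fixR c y ≠ ⊥ := by
  intro hy
  obtain ⟨g, rfl⟩ := exists_smul_vec (by have := hS.three; omega) hc hc₀
  obtain ⟨f, hf⟩ := hS.eqFix hc₀
  have hfree : stabilizer (Tv (g • c)) (g • y) = ⊥ := by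
    refine (Subgroup.eq_bot_iff_forall _).2 fun a ha => Tv.ext ?_
    have h1 := cov_mem_fixR g⁻¹ ((mem_stabilizer_Tv a).1 ha)
    rw [inv_smul_smul, inv_smul_smul, hy, AddSubgroup.mem_bot] at h1
    have h2 : ∀ v : Fin n → F, a.val ⬝ᵥ v = 0 := fun v => by
      have h3 := cov_dot_smul g⁻¹ a.val v
      rw [h1, zero_dotProduct] at h3
      exact h3.symm
    exact dotProduct_eq_zero _ h2
  by_cases h : ∃ a : Tv (g • c), a • (g • y) = x₀
  · obtain ⟨a, ha⟩ := h
    refine hne ((AddSubgroup.eq_bot_iff_forall _).2 fun ψ hψ => ?_)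
    have h1 : Tv.mk (g • c) ψ hψ.1 ∈ stabilizer (Tv (g • c)) x₀ := (mem_stabilizer_Tv _).2 hψ
    rw [← ha, orbit_stabilizer, hfree, Subgroup.mem_bot] at h1
    exact congrArg Tv.val h1
  · push Not at h
    exact hφ ((mem_stabilizer_Tv _).1 (mem_stabilizer_iff.2
      (fixed_of_free hf hfree h (Tv.mk (g • c) φ₀ hφc))))

/-- If no point is free, every group of fixing covectors is a hyperplane. -/
theorem Small.exact_plane (hS : Small F n Ω) {c : Fin n → F} (hc : c ≠ 0)
    (hnf : ∀ y : Ω, fixR c y ≠ ⊥) (x : Ω) :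
    ∃ e : Fin n → F, e ∉ F ∙ c ∧
      ∀ φ : Fin n → F, φ ∈ fixR c x ↔ φ ⬝ᵥ c = 0 ∧ φ ⬝ᵥ e = 0 := by
  classical
  haveI := Fintype.ofFinite F
  obtain ⟨f, hf⟩ := hS.eqFix hc
  haveI : Fintype (orbitRel.Quotient (⊤ : Subgroup (Tv c)) Ω) := Fintype.ofFinite _
  have hn := hS.three
  obtain ⟨hN, horb⟩ := card_eq_add hf
  rw [orb, Nat.card_eq_fintype_card] at horb
  have hb : (f + 1) * (Fintype.card F ^ 2 - Fintype.card F) ≤ Fintype.card F ^ n - Fintype.card F := by
    refine count_bound (by omega) ?_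
    rw [← Nat.card_eq_fintype_card, ← card_Tv hc, ← hN]
    exact hS.small
  let L : Finset (Fin n → F) := Finset.univ.filter fun d => d ∈ F ∙ c
  have hL : L.card = Fintype.card F := by
    rw [← Nat.subtype_card L (p := fun d => d ∈ F ∙ c) (fun d => by simp [L]),
      ← Nat.card_eq_fintype_card]
    refine (Module.natCard_eq_pow_finrank (K := F) (V := (F ∙ c : Submodule F (Fin n → F)))).trans ?_
    rw [finrank_span_singleton hc, pow_one]
  let P : Finset (Fin n → F) := Lᶜ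
  have hP : P.card = Fintype.card F ^ n - Fintype.card F := by
    rw [Finset.card_compl, hL, Fintype.card_fun, Fintype.card_fin]
  let r : (Fin n → F) → orbitRel.Quotient (⊤ : Subgroup (Tv c)) Ω → Prop :=
    fun d u => plane c d ⊔ stabilizer (Tv c) u.out ≠ ⊤
  have hex : ∀ d ∈ P, 1 ≤ (Finset.univ.filter (r d)).card := by
    intro d hd
    obtain ⟨y, hy⟩ := exists_serving hf (plane_ne_top (c := c) (d := d) (by simpa [P, L] using hd))
    refine Finset.card_pos.2 ⟨Quotient.mk'' y, Finset.mem_filter.2 ⟨Finset.mem_univ _, ?_⟩⟩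
    show plane c d ⊔ stabilizer (Tv c) (Quotient.mk'' y : orbitRel.Quotient (⊤ : Subgroup (Tv c)) Ω).out ≠ ⊤
    rwa [stabilizer_out]
  have hle : ∀ u : orbitRel.Quotient (⊤ : Subgroup (Tv c)) Ω,
      (P.filter fun d => r d u).card ≤ Fintype.card F ^ 2 - Fintype.card F := by
    intro u
    by_cases hall : ∀ φ : Fin n → F, φ ⬝ᵥ c = 0 → φ ∈ fixR c u.out
    · have h0 : stabilizer (Tv c) u.out = ⊤ := (Subgroup.eq_top_iff' _).2 fun a =>
        (mem_stabilizer_Tv a).2 (hall _ a.val_dot)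
      simp [r, h0]
    push Not at hall
    obtain ⟨φ, hφc, hφ⟩ := hall
    obtain ⟨e, he, hsub⟩ := hS.exists_plane hc u.out (hnf _) hφc hφ
    let T : Finset (Fin n → F) := Finset.univ.filter fun d => d ∈ pair c e
    have hT : T.card ≤ Fintype.card F ^ 2 := by
      rw [← Nat.subtype_card T (p := fun d => d ∈ pair c e) (fun d => by simp [T]),
        ← Nat.card_eq_fintype_card]
      refine (Module.natCard_eq_pow_finrank (K := F) (V := pair c e)).le.trans ?_
      exact Nat.pow_le_pow_right Nat.card_pos (finrank_pair_le c e)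
    have hLT : L ⊆ T := fun d hd => Finset.mem_filter.2 ⟨Finset.mem_univ _,
      (le_sup_left : F ∙ c ≤ pair c e) (Finset.mem_filter.1 hd).2⟩
    refine (Finset.card_le_card (t := T \ L) fun d hd => ?_).trans ?_
    · obtain ⟨hdP, hdu⟩ := Finset.mem_filter.1 hd
      refine Finset.mem_sdiff.2 ⟨Finset.mem_filter.2 ⟨Finset.mem_univ _, ?_⟩, Finset.mem_compl.1 hdP⟩
      by_contra hno
      exact hdu (serving_mem hsub hno)
    · rw [Finset.card_sdiff_of_subset hLT, hL]
      omega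
  have hsum : ∑ d ∈ P, (Finset.univ.filter (r d)).card = ∑ u, (P.filter fun d => r d u).card := by
    simp only [Finset.card_filter]
    exact Finset.sum_comm
  have hup : ∑ u, (P.filter fun d => r d u).card ≤ ∑ d ∈ P, 1 := by
    refine (Finset.sum_le_card_nsmul _ _ _ fun u _ => hle u).trans ?_
    rw [Finset.card_univ, horb, smul_eq_mul, ← Finset.card_eq_sum_ones, hP]
    exact hb
  have huniq : ∀ d ∈ P, (Finset.univ.filter (r d)).card = 1 := fun d hd =>
    (((Finset.sum_eq_sum_iff_of_le hex).1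
      (le_antisymm (Finset.sum_le_sum hex) (hsum ▸ hup))) d hd).symm
  by_cases hall : ∀ φ : Fin n → F, φ ⬝ᵥ c = 0 → φ ∈ fixR c x
  · exfalso
    set u₀ : orbitRel.Quotient (⊤ : Subgroup (Tv c)) Ω := Quotient.mk'' x with hu₀
    have h0 : (P.filter fun d => r d u₀).card = 0 := by
      have : stabilizer (Tv c) u₀.out = ⊤ := by
        rw [hu₀, stabilizer_out]
        exact (Subgroup.eq_top_iff' _).2 fun a => (mem_stabilizer_Tv a).2 (hall _ a.val_dot)
      simp [r, this]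
    have h1 : P.card ≤ ∑ u, (P.filter fun d => r d u).card := by
      rw [← hsum, Finset.card_eq_sum_ones]
      exact Finset.sum_le_sum hex
    rw [← Finset.add_sum_erase _ _ (Finset.mem_univ u₀), h0, zero_add, hP] at h1
    have h2 := h1.trans (Finset.sum_le_card_nsmul _ _ _ fun u _ => hle u)
    rw [Finset.card_erase_of_mem (Finset.mem_univ _), Finset.card_univ, horb, smul_eq_mul,
      Nat.add_sub_cancel, add_mul, one_mul] at *
    have hlt : Fintype.card F < Fintype.card F ^ 2 := by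
      have := Fintype.one_lt_card (α := F)
      nlinarith
    omega
  push Not at hall
  obtain ⟨φ, hφc, hφ⟩ := hall
  obtain ⟨e, he, hsub⟩ := hS.exists_plane hc x (hnf x) hφc hφ
  have hKle : plane c e ≤ stabilizer (Tv c) x := fun a ha =>
    (mem_stabilizer_Tv a).2 (hsub _ a.val_dot ha)
  have hproper : plane c e ⊔ stabilizer (Tv c) x ≠ ⊤ := by
    rw [sup_eq_right.2 hKle]
    intro h
    exact hφ ((mem_stabilizer_Tv (Tv.mk c φ hφc)).1 (h ▸ Subgroup.mem_top _))
  have heq : plane c e = stabilizer (Tv c) x := by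
    refine le_antisymm hKle ?_
    by_contra hno
    have hlt : (plane c e ⊔ stabilizer (Tv c) x).index < (plane c e).index := by
      rw [sup_eq_right.2 hKle]
      refine Nat.lt_of_le_of_ne (Subgroup.index_antitone hKle) fun h => hno ?_
      exact (Subgroup.eq_of_le_of_card_ge hKle (by
        have h1 := (plane c e).card_mul_index
        rw [← (stabilizer (Tv c) x).card_mul_index, h] at h1
        exact (Nat.eq_of_mul_eq_mul_right
          (Nat.pos_of_ne_zero Subgroup.index_ne_zero_of_finite) (h ▸ h1)).ge)).ge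
    obtain ⟨y, hxy, hy⟩ := exists_serving_other hf hlt
    have h2 := huniq e (by simpa [P, L] using he)
    rw [Finset.card_eq_one] at h2
    obtain ⟨w, hw⟩ := h2
    have hm : ∀ z : Ω, plane c e ⊔ stabilizer (Tv c) z ≠ ⊤ →
        (Quotient.mk'' z : orbitRel.Quotient (⊤ : Subgroup (Tv c)) Ω) = w := fun z hz => by
      have : (Quotient.mk'' z : orbitRel.Quotient (⊤ : Subgroup (Tv c)) Ω) ∈
          Finset.univ.filter (r e) := Finset.mem_filter.2 ⟨Finset.mem_univ _, by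
        show plane c e ⊔ stabilizer (Tv c) (Quotient.mk'' z : orbitRel.Quotient (⊤ : Subgroup (Tv c)) Ω).out ≠ ⊤
        rwa [stabilizer_out]⟩
      rwa [hw, Finset.mem_singleton] at this
    obtain ⟨a, -, ha⟩ := (mk_eq_mk_iff _ _ _).1 ((hm y hy).trans (hm x hproper).symm)
    exact hxy a ha
  refine ⟨e, he, fun ψ => ⟨fun hψ => ⟨hψ.1, ?_⟩, fun h => hsub ψ h.1 h.2⟩⟩
  have h3 : Tv.mk c ψ hψ.1 ∈ stabilizer (Tv c) x := (mem_stabilizer_Tv _).2 hψ
  rw [← heq] at h3
  exact h3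

/-- The transvections with given centre fixing a point are all or none. -/
theorem Small.noProper (hS : Small F n Ω) {c₀ : Fin n → F} (hc₀ : c₀ ≠ 0) (x₀ : Ω)
    (hne : fixR c₀ x₀ ≠ ⊥) {φ₀ : Fin n → F} (hφc : φ₀ ⬝ᵥ c₀ = 0) : φ₀ ∈ fixR c₀ x₀ := by
  by_contra hφ
  have hn := hS.three
  have H : ∀ c : Fin n → F, c ≠ 0 → ∃ e : Fin n → F, e ∉ F ∙ c ∧
      ∀ φ : Fin n → F, φ ∈ fixR c x₀ ↔ φ ⬝ᵥ c = 0 ∧ φ ⬝ᵥ e = 0 := fun c hc =>
    hS.exact_plane hc (hS.never_free_of_proper hc₀ hne hφc hφ hc) x₀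
  choose! D hD hR using H
  have key : ∀ c d : Fin n → F, c ≠ 0 → d ∉ pair c (D c) → ∃ γ : F,
      D c - γ • c ∈ pair d (D d) := by
    intro c d hc hd
    have hd0 : d ≠ 0 := fun e => hd (e ▸ Submodule.zero_mem _)
    obtain ⟨φ, hφ1, hφ2⟩ := exists_dot_ne' hd
    have hφR : φ ∈ fixR c x₀ := (hR c hc φ).2 ⟨hφ1 _ (left_mem_pair _ _), hφ1 _ (right_mem_pair _ _)⟩
    have hm : D c ∈ pair d (D d) ⊔ (F ∙ c) := by
      by_contra hno
      obtain ⟨ψ, h1, h2⟩ := exists_dot_ne' hno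
      have hψd := h1 d (Submodule.mem_sup_left (left_mem_pair _ _))
      have hψe := h1 (D d) (Submodule.mem_sup_left (right_mem_pair _ _))
      have hψc := h1 c (Submodule.mem_sup_right (Submodule.mem_span_singleton_self c))
      obtain ⟨_, hfix⟩ := (hR d hd0 ψ).2 ⟨hψd, hψe⟩
      have h3 := cov_mem_fixR (tv d ψ hψd) hφR
      rw [hfix, tv_smul, hψc, zero_smul, add_zero, cov_tv] at h3
      have h4 := sub_mem hφR h3
      rw [sub_sub_cancel] at h4
      have h5 := ((hR c hc _).1 h4).2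
      rw [smul_dotProduct, smul_eq_mul] at h5
      exact h2 ((mul_eq_zero.1 h5).resolve_left hφ2)
    obtain ⟨u, hu, v, hv, e⟩ := Submodule.mem_sup.1 hm
    obtain ⟨γ, rfl⟩ := Submodule.mem_span_singleton.1 hv
    exact ⟨γ, by rwa [← e, add_sub_cancel_right]⟩
  have swap : ∀ c d : Fin n → F, c ≠ 0 → d ≠ 0 → c ∈ pair d (D d) → d ∈ pair c (D c) := by
    intro c d hc hd0 hcd
    by_contra hd
    obtain ⟨γ, hγ⟩ := key c d hc hd
    have hD2 : D c ∈ pair d (D d) := by
      have := add_mem hγ (Submodule.smul_mem _ γ hcd)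
      rwa [sub_add_cancel] at this
    exact hd (pair_eq hcd hD2 hc (hD c hc) ▸ left_mem_pair _ _)
  obtain ⟨d, hd⟩ := exists_notMem_pair hn c₀ (D c₀)
  have hd0 : d ≠ 0 := fun e => hd (e ▸ Submodule.zero_mem _)
  obtain ⟨γ, hγ⟩ := key c₀ d hc₀ hd
  set e := D c₀ - γ • c₀ with he
  have hec : e ∉ F ∙ c₀ := fun h => hD c₀ hc₀ (by
    have := add_mem h (Submodule.smul_mem _ γ (Submodule.mem_span_singleton_self c₀))
    rwa [he, sub_add_cancel] at this)
  have he0 : e ≠ 0 := fun h => hec (h ▸ Submodule.zero_mem _)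
  have hel : e ∈ pair c₀ (D c₀) :=
    sub_mem (right_mem_pair _ _) (Submodule.smul_mem _ γ (left_mem_pair _ _))
  have h1 := swap e c₀ he0 hc₀ hel
  have h2 := swap e d he0 hd0 hγ
  rw [← pair_eq h1 (left_mem_pair e (D e)) hc₀ hec, pair_eq (left_mem_pair _ _) hel hc₀ hec] at h2
  exact hd h2

end CfsgLib.Known.MinIndexPSL
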