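import Cfsg.Agent.Lib.Known.MinIndexPSL.Fixed

/-!
Owner: helper12. `SL n F` has no small action in which all transvection groups with given centre act freely,
apart from `n = 4`, `q = 2`.
-/

set_option autoImplicit false
set_option linter.all false

namespace CfsgLib.Known.MinIndexPSL

open Matrix MulAction

variable {F : Type*} [Field F] {n : ℕ}
variable {Ω : Type*} [MulAction (Matrix.SpecialLinearGroup (Fin n) F) Ω]

local notation "SLn" => Matrix.SpecialLinearGroup (Fin n) F

/-- `tv E u` carries `g • ω` back to `ω`. -/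
def Back (E : Fin n → F) (ω : Ω) (g : SLn) (u : Fin n → F) : Prop :=
  ∃ h : u ⬝ᵥ E = 0, tv E u h • (g • ω) = ω

theorem Back.mul {E : Fin n → F} {ω : Ω} {g h : SLn} {u v : Fin n → F} (hg : Back E ω g u)
    (hh : Back E ω h v) (hE : g • E = E) : Back E ω (g * h) (u + cov g v) := by
  obtain ⟨hu, hu'⟩ := hg
  obtain ⟨hv, hv'⟩ := hh
  have hc : cov g v ⬝ᵥ E = 0 := by
    have := cov_dot_smul g v E
    rwa [hE, hv] at this
  refine ⟨by rw [add_dotProduct, hu, hc, add_zero], ?_⟩
  rw [← tv_mul hu hc, ← mul_smul, mul_assoc, ← mul_assoc (tv E (cov g v) hc)]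
  have e : tv E (cov g v) hc * g = g * tv E v hv := by
    rw [← tv_congr hE rfl (by rw [cov_dot_smul, hv]), ← conj_tv g hv, inv_mul_cancel_right]
  rw [e, mul_assoc g, mul_smul, mul_smul g, mul_smul (tv E v hv), hv', hu']

theorem back_one (E : Fin n → F) (ω : Ω) : Back E ω (1 : SLn) 0 :=
  ⟨zero_dotProduct E, by rw [tv_zero, one_smul, one_smul]⟩

/-- The basic transvection. -/
def el (i j : Fin n) (h : i ≠ j) : SLn :=
  tv (Pi.single i 1) (Pi.single j 1) (by rw [single_dotProduct, Pi.single_eq_of_ne h.symm, mul_zero])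

theorem el_smul {i j : Fin n} (h : i ≠ j) (x : Fin n → F) :
    (el i j h : SLn) • x = x + x j • Pi.single i (1 : F) := by
  rw [el, tv_smul, single_dotProduct, one_mul]

theorem el_fix {i j z : Fin n} (h : i ≠ j) (hz : j ≠ z) :
    (el i j h : SLn) • (Pi.single z 1 : Fin n → F) = Pi.single z 1 := by
  rw [el_smul, Pi.single_eq_of_ne hz, zero_smul, add_zero]

theorem cov_el {i j : Fin n} (h : i ≠ j) (φ : Fin n → F) (m : Fin n) :
    cov (el i j h : SLn) φ m = φ m - if m = j then φ i else 0 := by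
  rw [el, cov_tv, dotProduct_single, mul_one, Pi.sub_apply, Pi.smul_apply, Pi.single_apply, smul_eq_mul]
  split_ifs <;> simp

theorem el_relation {i j k : Fin n} (hij : i ≠ j) (hik : i ≠ k) (hkj : k ≠ j) :
    (el i k hik : SLn) * el k j hkj = el i j hij * (el k j hkj * el i k hik) := by
  refine Classical.sl_ext_smul fun x => funext fun m => ?_
  simp only [mul_smul, el_smul, Pi.add_apply, Pi.smul_apply, Pi.single_apply, smul_eq_mul]
  simp only [if_neg hij.symm, if_neg hkj, if_neg hkj.symm, if_neg hik.symm, if_neg hij, if_neg hik]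
  split_ifs <;> simp_all <;> ring

/-- Everything about the correcting covectors that is used. -/
structure Regular (z : Fin n) (ω : Ω) : Prop where
  ex : ∀ g : SLn, ∃ u, Back (Pi.single z (1 : F)) ω g u
  uniq : ∀ (g : SLn) u v, Back (Pi.single z (1 : F)) ω g u → Back (Pi.single z (1 : F)) ω g v → u = v
  free : ∀ (c : Fin n → F), c ≠ 0 → fixR c ω = ⊥

variable {z : Fin n} {ω : Ω}

theorem Regular.rel (hR : Regular (F := F) z ω) {i j k : Fin n} (hij : i ≠ j) (hik : i ≠ k) (hkj : k ≠ j)
    (hjz : j ≠ z) (hkz : k ≠ z) {a b : Fin n → F}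
    (ha : Back (Pi.single z (1 : F)) ω (el i j hij : SLn) a)
    (hb : Back (Pi.single z (1 : F)) ω (el k j hkj : SLn) b) :
    a k = -b i ∧ ∀ m, m ≠ k → m ≠ j → a m = 0 := by
  obtain ⟨c, hc⟩ := hR.ex (el i k hik)
  have h1 := hc.mul hb (el_fix hik hkz)
  have h2 := ha.mul (hb.mul hc (el_fix hkj hjz)) (el_fix hij hjz)
  rw [← el_relation hij hik hkj] at h2
  have e := hR.uniq _ _ _ h1 h2
  refine ⟨?_, fun m hmk hmj => ?_⟩
  · have := congrFun e k
    simp only [Pi.add_apply, cov_el, if_neg hkj, if_neg hij, ↓reduceIte] at this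
    linear_combination -this
  · have := congrFun e m
    simp only [Pi.add_apply, cov_el, if_neg hmk, if_neg hmj, sub_zero] at this
    linear_combination -this

theorem Regular.no_axis (hR : Regular (F := F) z ω) {i j : Fin n} (hij : i ≠ j) (hiz : i ≠ z) (hjz : j ≠ z)
    {u : Fin n → F} (hu : Back (Pi.single z (1 : F)) ω (el i j hij : SLn) u)
    (h0 : ∀ m, m ≠ j → u m = 0) : False := by
  obtain ⟨h, hu'⟩ := hu
  have hu2 : u = u j • Pi.single j (1 : F) := funext fun m => by
    rcases eq_or_ne m j with rfl | hm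
    · simp
    · simp [h0 m hm, hm]
  set c : Fin n → F := Pi.single i 1 + u j • Pi.single z 1 with hc
  have hc0 : c ≠ 0 := fun e => by
    have := congrFun e i
    simp [hc, Pi.single_eq_of_ne hiz] at this
  have hcj : Pi.single j (1 : F) ⬝ᵥ c = 0 := by
    simp [hc, single_dotProduct, hij.symm, hjz]
  have hmem : Pi.single j (1 : F) ∈ fixR c ω := by
    refine ⟨hcj, ?_⟩
    have e : tv c (Pi.single j 1) hcj = tv (Pi.single z 1) u h * el i j hij := by
      refine Classical.sl_ext_smul fun x => ?_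
      rw [mul_smul, tv_smul, tv_smul, el_smul, single_dotProduct, one_mul, hc, dotProduct_add,
        dotProduct_smul, dotProduct_single, h0 i hij, mul_one, smul_eq_mul, mul_zero, add_zero]
      conv_rhs => rw [hu2, smul_dotProduct, single_dotProduct, one_mul, smul_eq_mul]
      module
    rw [e, mul_smul, hu']
  rw [hR.free c hc0, AddSubgroup.mem_bot] at hmem
  exact one_ne_zero (Pi.single_eq_zero_iff.1 hmem)

theorem Regular.commute (hR : Regular (F := F) z ω) {i j k : Fin n} (hij : i ≠ j) (hkj : k ≠ j)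
    (hjz : j ≠ z) {a b : Fin n → F}
    (ha : Back (Pi.single z (1 : F)) ω (el i j hij : SLn) a)
    (hb : Back (Pi.single z (1 : F)) ω (el k j hkj : SLn) b) : b i = a k := by
  have h1 := ha.mul hb (el_fix hij hjz)
  have h2 := hb.mul ha (el_fix hkj hjz)
  have e : (el i j hij : SLn) * el k j hkj = el k j hkj * el i j hij := by
    refine Classical.sl_ext_smul fun x => funext fun m => ?_
    simp only [mul_smul, el_smul, Pi.add_apply, Pi.smul_apply, Pi.single_apply, smul_eq_mul,
      if_neg hij.symm, if_neg hkj.symm]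
    ring
  rw [e] at h1
  have := congrFun (hR.uniq _ _ _ h1 h2) j
  simp only [Pi.add_apply, cov_el, ↓reduceIte] at this
  linear_combination -this

/-- A diagonal element of determinant one. -/
def dg (d : Fin n → F) (h : ∏ i, d i = 1) : SLn := ⟨diagonal d, by rw [det_diagonal, h]⟩

theorem dg_smul (d : Fin n → F) (h : ∏ i, d i = 1) (x : Fin n → F) :
    dg d h • x = fun m => d m * x m := by
  rw [sl_smul]
  exact funext fun m => Matrix.mulVec_diagonal d x m

theorem Regular.torus (hR : Regular (F := F) z ω) {i j : Fin n} (hij : i ≠ j) (hjz : j ≠ z)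
    (d : Fin n → F) (h : ∏ i, d i = 1) (hdz : d z = 1) (hd : d i = d j) {a : Fin n → F}
    (ha : Back (Pi.single z (1 : F)) ω (el i j hij : SLn) a) {m : Fin n} (hm : m ≠ j) :
    a m * (d m - 1) = 0 := by
  obtain ⟨b, hb⟩ := hR.ex (dg d h)
  have hfix : dg d h • (Pi.single z 1 : Fin n → F) = Pi.single z 1 := by
    rw [dg_smul]
    funext l
    rcases eq_or_ne l z with rfl | hl
    · simp [hdz]
    · simp [hl]
  have h1 := ha.mul hb (el_fix hij hjz)
  have h2 := hb.mul ha hfix
  have e : (el i j hij : SLn) * dg d h = dg d h * el i j hij := by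
    refine Classical.sl_ext_smul fun x => funext fun l => ?_
    simp only [mul_smul, el_smul, dg_smul, Pi.add_apply, Pi.smul_apply, Pi.single_apply, smul_eq_mul]
    split_ifs with hl
    · subst hl; rw [hd]; ring
    · ring
  rw [e] at h1
  have h3 := congrFun (hR.uniq _ _ _ h1 h2) m
  simp only [Pi.add_apply, cov_el, if_neg hm] at h3
  have h4 : d m * cov (dg d h) a m = a m := by
    have h5 := cov_dot_smul (dg d h) a (Pi.single m 1)
    rw [dg_smul, dotProduct_single, mul_one] at h5
    rw [← h5, dotProduct, Finset.sum_eq_single m]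
    · simp [mul_comm]
    · intro l _ hl; simp [hl]
    · exact fun hl => absurd (Finset.mem_univ m) hl
  linear_combination d m * h3 + h4

theorem Regular.square (hR : Regular (F := F) z ω) {i j : Fin n} (hij : i ≠ j) (hjz : j ≠ z)
    (h2 : (2 : F) = 0) {a : Fin n → F}
    (ha : Back (Pi.single z (1 : F)) ω (el i j hij : SLn) a) : a i = 0 := by
  have h1 := ha.mul ha (el_fix hij hjz)
  have e : (el i j hij : SLn) * el i j hij = 1 := by
    refine Classical.sl_ext_smul fun x => funext fun l => ?_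
    simp only [mul_smul, el_smul, one_smul, Pi.add_apply, Pi.smul_apply, Pi.single_apply, smul_eq_mul,
      if_neg hij.symm]
    linear_combination (x j * if l = i then (1 : F) else 0) * h2
  rw [e] at h1
  have h3 := congrFun (hR.uniq _ _ _ h1 (back_one _ ω)) j
  simp only [Pi.add_apply, cov_el, ↓reduceIte, Pi.zero_apply] at h3
  linear_combination -h3 + a j * h2

theorem Regular.absurd_of_large (hR : Regular (F := F) z ω) (hn : 5 ≤ n) : False := by
  classical
  obtain ⟨i, j, k, l, hiz, hjz, hkz, hlz, hij, hik, hil, hjk, hjl, hkl⟩ :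
      ∃ i j k l : Fin n, i ≠ z ∧ j ≠ z ∧ k ≠ z ∧ l ≠ z ∧ i ≠ j ∧ i ≠ k ∧ i ≠ l ∧ j ≠ k ∧ j ≠ l ∧ k ≠ l := by
    have hcard : 4 ≤ ((Finset.univ : Finset (Fin n)).erase z).card := by
      rw [Finset.card_erase_of_mem (Finset.mem_univ z), Finset.card_univ, Fintype.card_fin]; omega
    obtain ⟨T, hT, hT4⟩ := Finset.exists_subset_card_eq hcard
    obtain ⟨i, j, k, l, h1, h2, h3, h4, h5, h6, rfl⟩ := Finset.card_eq_four.1 hT4
    exact ⟨i, j, k, l, Finset.ne_of_mem_erase (hT (by simp)), Finset.ne_of_mem_erase (hT (by simp)),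
      Finset.ne_of_mem_erase (hT (by simp)), Finset.ne_of_mem_erase (hT (by simp)),
      h1, h2, h3, h4, h5, h6⟩
  obtain ⟨a, ha⟩ := hR.ex (el i j hij)
  obtain ⟨b, hb⟩ := hR.ex (el k j hjk.symm)
  obtain ⟨c, hc⟩ := hR.ex (el l j hjl.symm)
  refine hR.no_axis hij hiz hjz ha fun m hm => ?_
  rcases eq_or_ne m k with rfl | hmk
  · exact (hR.rel hij hil hjl.symm hjz hlz ha hc).2 _ hkl hm
  · exact (hR.rel hij hik hjk.symm hjz hkz ha hb).2 m hmk hm

theorem Regular.absurd_four {Ω : Type*} [MulAction (Matrix.SpecialLinearGroup (Fin 4) F) Ω] {ω : Ω}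
    [Finite F] (hR : Regular (F := F) (0 : Fin 4) ω) (hq : 2 < Nat.card F) : False := by
  have h13 : (1 : Fin 4) ≠ 3 := by decide
  have h12 : (1 : Fin 4) ≠ 2 := by decide
  have h23 : (2 : Fin 4) ≠ 3 := by decide
  obtain ⟨a, ha⟩ := hR.ex (el 1 3 h13)
  obtain ⟨b, hb⟩ := hR.ex (el 2 3 h23)
  obtain ⟨r1, r2⟩ := hR.rel h13 h12 h23 (by decide) (by decide) ha hb
  have h2a : (2 : F) * a 2 = 0 := by
    linear_combination r1 - hR.commute h13 h23 (by decide) ha hb
  have ha2 : a 2 = 0 := by
    by_cases h2 : (2 : F) = 0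
    · obtain ⟨ν, hν0, hν1⟩ : ∃ ν : F, ν ≠ 0 ∧ ν ≠ 1 := by
        classical
        haveI := Fintype.ofFinite F
        rw [Nat.card_eq_fintype_card] at hq
        obtain ⟨ν, hν⟩ : ∃ ν, ν ∈ ((Finset.univ : Finset F).erase 0).erase 1 := by
          refine Finset.card_pos.1 ?_
          rw [Finset.card_erase_of_mem (by simp), Finset.card_erase_of_mem (Finset.mem_univ _),
            Finset.card_univ]
          omega
        simp only [Finset.mem_erase] at hν
        exact ⟨ν, hν.2.1, hν.1⟩
      have hν2 : ν * ν ≠ 1 := fun e => hν1 (by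
        have : (ν - 1) * (ν - 1) = 0 := by linear_combination e + (1 - ν) * h2
        exact sub_eq_zero.1 (mul_self_eq_zero.1 this))
      have hp : ∏ i, (![1, ν, (ν * ν)⁻¹, ν] : Fin 4 → F) i = 1 := by
        simp only [Fin.prod_univ_four, Matrix.cons_val_zero, Matrix.cons_val_one, Matrix.cons_val]
        field_simp
      have h := hR.torus h13 (by decide) _ hp rfl (by rfl) ha h23
      rcases mul_eq_zero.1 h with h | h
      · exact h
      · exfalso
        apply hν2
        have h' : (ν * ν)⁻¹ = 1 := sub_eq_zero.1 h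
        exact inv_eq_one.1 h'
    · exact (mul_eq_zero.1 h2a).resolve_left h2
  refine hR.no_axis h13 (by decide) (by decide) ha fun m hm => ?_
  rcases eq_or_ne m 2 with rfl | hm2
  · exact ha2
  · exact r2 m hm2 hm

theorem Regular.absurd_three {Ω : Type*} [MulAction (Matrix.SpecialLinearGroup (Fin 3) F) Ω] {ω : Ω}
    (hR : Regular (F := F) (0 : Fin 3) ω) : False := by
  have h12 : (1 : Fin 3) ≠ 2 := by decide
  obtain ⟨a, ha⟩ := hR.ex (el 1 2 h12)
  have ha1 : a 1 = 0 := by
    by_cases h2 : (2 : F) = 0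
    · exact hR.square h12 (by decide) h2 ha
    · have hp : ∏ i, (![1, -1, -1] : Fin 3 → F) i = 1 := by simp [Fin.prod_univ_three]
      have h := hR.torus h12 (by decide) _ hp rfl rfl ha h12
      refine (mul_eq_zero.1 h).resolve_right fun e => h2 ?_
      have e' : (-1 : F) - 1 = 0 := e
      linear_combination -e'
  have ha0 : a 0 = 0 := by
    obtain ⟨h, -⟩ := ha
    rwa [dotProduct_single, mul_one] at h
  refine hR.no_axis h12 (by decide) (by decide) ha fun m hm => ?_
  fin_cases m
  · exact ha0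
  · exact ha1
  · exact absurd rfl hm

/-- `SL n F` has no small action, except for `n = 4` and two elements. -/
theorem Small.false_of_ne [Finite F] [Finite Ω] (hS : Small F n Ω) (hexc : ¬ (n = 4 ∧ Nat.card F = 2)) :
    False := by
  have hn := hS.three
  obtain ⟨g, ω, -⟩ := hS.moved
  have hz : (Pi.single (⟨0, by omega⟩ : Fin n) (1 : F) : Fin n → F) ≠ 0 :=
    Pi.single_ne_zero_iff.2 one_ne_zero
  obtain ⟨f, hf⟩ := hS.eqFix hz
  have hfree : ∀ y : Ω, stabilizer (Tv (Pi.single (⟨0, by omega⟩ : Fin n) (1 : F))) y = ⊥ := fun y =>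
    (Subgroup.eq_bot_iff_forall _).2 fun a ha => Tv.ext (by
      have h := (mem_stabilizer_Tv a).1 ha
      rw [hS.free hz y, AddSubgroup.mem_bot] at h
      rw [h]; rfl)
  have hR : Regular (F := F) (⟨0, by omega⟩ : Fin n) ω := by
    refine ⟨fun g => ?_, fun g u v ⟨hu, hu'⟩ ⟨hv, hv'⟩ => ?_, fun c hc => hS.free hc ω⟩
    · by_cases h : ∃ a : Tv (Pi.single (⟨0, by omega⟩ : Fin n) (1 : F)), a • (g • ω) = ω
      · obtain ⟨a, ha⟩ := h
        exact ⟨a.val, a.val_dot, ha⟩
      · exfalso
        push Not at h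
        obtain ⟨a, ha, -⟩ := exists_moved hf
        refine ha (Subgroup.mem_bot.1 ?_)
        rw [← hfree ω]
        exact mem_stabilizer_iff.2 (fixed_of_free hf (hfree _) h a)
    · have h1 : (Tv.mk _ v hv)⁻¹ * Tv.mk _ u hu ∈ stabilizer _ (g • ω) := by
        rw [mem_stabilizer_iff, mul_smul, inv_smul_eq_iff]
        exact hu'.trans hv'.symm
      rw [hfree, Subgroup.mem_bot, inv_mul_eq_one] at h1
      exact (congrArg Tv.val h1).symm
  rcases (show n = 3 ∨ n = 4 ∨ 5 ≤ n by omega) with rfl | rfl | h5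
  · exact hR.absurd_three
  · refine hR.absurd_four ?_
    have : 1 < Nat.card F := Finite.one_lt_card
    omega
  · exact hR.absurd_of_large h5

end CfsgLib.Known.MinIndexPSL
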