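import Cfsg.Agent.Lib.Known.MinIndexPSL.Basic

/-!
Owner: helper12. In a small action of `SL n F` the transvections with given centre fixing a point form
nothing, everything, or a hyperplane.
-/

set_option autoImplicit false
set_option linter.all false

namespace CfsgLib.Known.MinIndexPSL

open Matrix MulAction

variable {F : Type*} [Field F] [Finite F]

/-- An additive subgroup of the plane supplementing all lines contains one of them. -/
theorem lines_full (T : AddSubgroup (F × F))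
    (hsup : ∀ v : F × F, v ≠ 0 → ∀ w : F × F, ∃ t ∈ T, ∃ a : F, w = t + a • v) :
    ∃ v : F × F, v ≠ 0 ∧ ∀ a : F, a • v ∈ T := by
  classical
  haveI := Fintype.ofFinite F
  by_contra hno
  push Not at hno
  let l : F × F → F →+ (F × F) ⧸ T := fun v =>
    (QuotientAddGroup.mk' T).comp (AddMonoidHom.mk' (fun a : F => a • v) fun a b => add_smul a b v)
  have hl : ∀ v a, l v a = QuotientAddGroup.mk' T (a • v) := fun v a => rfl
  let z : F × F → Finset F := fun v => Finset.univ.filter fun a => a • v ∈ T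
  have hz : ∀ v, Nat.card (l v).ker = (z v).card := fun v => by
    refine Nat.subtype_card (z v) fun a => ?_
    show a ∈ z v ↔ l v a = 0
    rw [hl, QuotientAddGroup.mk'_apply, QuotientAddGroup.eq_zero_iff]
    simp [z]
  have hcard : ∀ v : F × F, v ≠ 0 → (z v).card * T.index = Fintype.card F := by
    intro v hv
    have hs : Function.Surjective (l v) := by
      intro m
      obtain ⟨w, rfl⟩ := QuotientAddGroup.mk'_surjective T m
      obtain ⟨t, ht, a, rfl⟩ := hsup v hv w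
      refine ⟨a, ?_⟩
      rw [hl, map_add, show (QuotientAddGroup.mk' T) t = 0 from (QuotientAddGroup.eq_zero_iff t).2 ht, zero_add]
    rw [← hz v, ← Nat.card_eq_fintype_card, ← (l v).ker.card_mul_index, AddSubgroup.index_ker,
      AddMonoidHom.range_eq_top.2 hs, AddSubgroup.card_top, AddSubgroup.index_eq_card]
  set u := (z (0, 1)).card with hu
  have hk0 : T.index ≠ 0 := AddSubgroup.index_ne_zero_of_finite
  have h01 : ((0, 1) : F × F) ≠ 0 := fun h => one_ne_zero (congrArg Prod.snd h)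
  have hsame : ∀ b : F, (z (1, b)).card = u := fun b => by
    have h1 := hcard (1, b) fun h => one_ne_zero (congrArg Prod.fst h)
    rw [← hcard (0, 1) h01] at h1
    exact Nat.eq_of_mul_eq_mul_right (Nat.pos_of_ne_zero hk0) h1
  let Ts : Finset (F × F) := Finset.univ.filter fun t => t ∈ T
  have hTs : Ts.card * T.index = Fintype.card F * Fintype.card F := by
    have h1 := T.card_mul_index
    rw [Nat.card_eq_fintype_card (α := F × F), Fintype.card_prod] at h1
    rw [← h1, Nat.subtype_card Ts (fun a => by simp [Ts])]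
  have hT : Ts.card = Fintype.card F * u := by
    refine Nat.eq_of_mul_eq_mul_right (Nat.pos_of_ne_zero hk0) ?_
    rw [hTs, mul_assoc, hcard (0, 1) h01]
  have hvert : (Ts.filter fun t => t.1 = 0).card = u := by
    rw [hu]
    refine Finset.card_bij' (fun t _ => t.2) (fun a _ => ((0 : F), a)) ?_ ?_ ?_ ?_
    · intro t ht
      obtain ⟨ht, h0⟩ := Finset.mem_filter.1 ht
      have : t.2 • ((0 : F), (1 : F)) = t := Prod.ext (by simp [h0]) (by simp)
      refine Finset.mem_filter.2 ⟨Finset.mem_univ _, ?_⟩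
      rw [this]
      exact (Finset.mem_filter.1 ht).2
    · intro a ha
      have : a • ((0 : F), (1 : F)) = (0, a) := Prod.ext (by simp) (by simp)
      have h2 := (Finset.mem_filter.1 ha).2
      rw [this] at h2
      simpa [Ts] using h2
    · intro t ht
      exact Prod.ext (Finset.mem_filter.1 ht).2.symm rfl
    · intro a ha
      rfl
  have hother : (Ts.filter fun t => ¬ t.1 = 0).card = Fintype.card F * (u - 1) := by
    rw [Finset.card_eq_sum_card_fiberwise (f := fun t : F × F => t.2 / t.1) (t := Finset.univ)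
      (fun _ _ => Finset.mem_univ _), ← Finset.card_univ, ← smul_eq_mul, ← Finset.sum_const]
    refine Finset.sum_congr rfl fun b _ => ?_
    rw [← hsame b, ← Finset.card_erase_of_mem (s := z (1, b)) (a := 0)
      (Finset.mem_filter.2 ⟨Finset.mem_univ _, by rw [zero_smul]; exact zero_mem T⟩)]
    refine Finset.card_bij' (fun t _ => t.1) (fun a _ => (a, a * b)) ?_ ?_ ?_ ?_
    · intro t ht
      simp only [Finset.mem_filter, Ts, Finset.mem_univ, true_and] at ht
      obtain ⟨⟨htT, h0⟩, hb⟩ := ht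
      have : t.1 • ((1 : F), b) = t := Prod.ext (by simp) (by simp [← hb]; field_simp)
      simp only [Finset.mem_erase, z, Finset.mem_filter, Finset.mem_univ, true_and, this]
      exact ⟨h0, htT⟩
    · intro a ha
      simp only [Finset.mem_erase, z, Finset.mem_filter, Finset.mem_univ, true_and] at ha
      simp only [Finset.mem_filter, Ts, Finset.mem_univ, true_and]
      refine ⟨⟨by simpa using ha.2, ha.1⟩, by field_simp [ha.1]⟩
    · intro t ht
      simp only [Finset.mem_filter] at ht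
      refine Prod.ext rfl ?_
      rw [← ht.2]
      field_simp [ht.1.2]
    · intro a ha
      rfl
  have htot := Finset.card_filter_add_card_filter_not (s := Ts) (fun t : F × F => t.1 = 0)
  rw [hvert, hother, hT] at htot
  have hu0 : 1 ≤ u := Finset.card_pos.2
    ⟨0, Finset.mem_filter.2 ⟨Finset.mem_univ _, by rw [zero_smul]; exact zero_mem T⟩⟩
  have huq : u = Fintype.card F := by
    obtain ⟨u', hu'⟩ := Nat.exists_eq_succ_of_ne_zero (Nat.one_le_iff_ne_zero.1 hu0)
    rw [hu'] at htot ⊢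
    simp only [Nat.succ_eq_add_one, Nat.add_sub_cancel, mul_add, mul_one] at htot ⊢
    omega
  obtain ⟨a, ha⟩ := hno (0, 1) h01
  exact ha (by
    have hall := Finset.eq_univ_of_card _ (hu ▸ huq : (z (0, 1)).card = Fintype.card F)
    exact (Finset.mem_filter.1 (hall ▸ Finset.mem_univ a : a ∈ z (0, 1))).2)

variable {n : ℕ}

theorem finrank_perp {c : Fin n → F} (hc : c ≠ 0) : Module.finrank F (perp c) = n - 1 := by
  let f : (Fin n → F) →ₗ[F] F :=
    { toFun := fun φ => φ ⬝ᵥ c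
      map_add' := fun a b => add_dotProduct a b c
      map_smul' := fun a b => smul_dotProduct a b c }
  have hk : LinearMap.ker f = perp c := by ext φ; rfl
  obtain ⟨i, hi⟩ := Function.ne_iff.1 hc
  have hr : LinearMap.range f = ⊤ := LinearMap.range_eq_top.2 fun a =>
    ⟨Pi.single i (a / c i), by
      show Pi.single i (a / c i) ⬝ᵥ c = a
      rw [single_dotProduct, div_mul_cancel₀ _ hi]⟩
  have h := f.finrank_range_add_finrank_ker
  rw [hr, finrank_top, Module.finrank_self, hk, Module.finrank_fin_fun] at h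
  omega

theorem card_perp {c : Fin n → F} (hc : c ≠ 0) : Nat.card (perp c) = Nat.card F ^ (n - 1) := by
  rw [Module.natCard_eq_pow_finrank (K := F), finrank_perp hc]

theorem card_Tv {c : Fin n → F} (hc : c ≠ 0) : Nat.card (Tv c) = Nat.card F ^ (n - 1) :=
  (Nat.card_congr Multiplicative.toAdd).trans (card_perp hc)

variable {Ω : Type*} [Finite Ω] [MulAction (Matrix.SpecialLinearGroup (Fin n) F) Ω]

variable (n F Ω) in
/-- A nontrivial transitive action on fewer points than the projective space has. -/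
structure Small : Prop where
  three : 3 ≤ n
  trans : MulAction.IsPretransitive (Matrix.SpecialLinearGroup (Fin n) F) Ω
  small : Nat.card Ω * (Nat.card F - 1) < Nat.card F ^ n - 1
  moved : ∃ (g : Matrix.SpecialLinearGroup (Fin n) F) (x : Ω), g • x ≠ x

theorem Small.eqFix (hS : Small F n Ω) {c : Fin n → F} (hc : c ≠ 0) :
    ∃ f, EqFix (Tv c) Ω f := by
  have hn := hS.three
  have h2 : 2 ≤ Nat.card F := Finite.one_lt_card
  obtain ⟨φ, hφ0, hφ⟩ : ∃ φ : Fin n → F, φ ≠ 0 ∧ φ ⬝ᵥ c = 0 := by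
    have hne : perp c ≠ ⊥ := fun h => by
      have := finrank_perp hc
      rw [h, finrank_bot] at this
      omega
    obtain ⟨φ, hφ, h0⟩ := Submodule.exists_mem_ne_zero_of_ne_bot hne
    exact ⟨φ, h0, hφ⟩
  refine ⟨Nat.card (fixedBy Ω (tv c φ hφ)), fun a ha => ?_, ?_, ?_⟩
  · have ha0 : a.val ≠ 0 := fun e => ha (Tv.ext (by rw [e]; rfl))
    exact card_fixedBy_eq_of_isConj (isConj_tv hn hc hc ha0 hφ0 a.val_dot hφ)
  · rw [card_Tv hc]
    have hs := hS.small
    obtain ⟨q, hq⟩ := Nat.exists_eq_add_of_le h2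
    obtain ⟨m, rfl⟩ := Nat.exists_eq_add_of_le' (show 1 ≤ n by omega)
    simp only [hq, Nat.add_sub_cancel, pow_succ] at hs ⊢
    have e : 2 + q - 1 = q + 1 := by omega
    rw [e] at hs
    have hp : 0 < (2 + q) ^ m := pow_pos (by omega) m
    by_contra hc'
    have := Nat.mul_le_mul_right (q + 1) (not_lt.1 hc')
    have h3 : (2 + q) ^ m * (2 + q) ≤ 2 * (2 + q) ^ m * (q + 1) := by nlinarith
    omega
  · by_contra hno
    push Not at hno
    obtain ⟨g, x, hgx⟩ := hS.moved
    have htop : MulAction.stabilizer (Matrix.SpecialLinearGroup (Fin n) F) x = ⊤ := by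
      refine eq_top_of_all_tv (by omega) _ fun c' φ' h' hc' => ?_
      rcases eq_or_ne φ' 0 with rfl | hφ'
      · rw [tv_zero]; exact one_mem _
      have h1 := card_fixedBy_eq_of_isConj (Ω := Ω) (isConj_tv hn hc hc' hφ0 hφ' hφ h')
      have h2 : fixedBy Ω (tv c φ hφ) = Set.univ := Set.eq_univ_of_forall fun y =>
        hno (Tv.mk c φ hφ) y
      rw [h2, Nat.card_coe_set_eq, Nat.card_coe_set_eq, Set.ncard_univ] at h1
      have h3 := Set.eq_of_subset_of_ncard_le (Set.subset_univ (fixedBy Ω (tv c' φ' h')))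
        (by rw [Set.ncard_univ, h1]) Set.finite_univ
      exact mem_stabilizer_iff.2 (h3.symm ▸ Set.mem_univ x : x ∈ fixedBy Ω (tv c' φ' h'))
    exact hgx (mem_stabilizer_iff.1 (htop ▸ Subgroup.mem_top g))

theorem fixR_orbit {c : Fin n → F} {x y : Ω} {a : Tv c} (h : a • x = y) :
    fixR c y = fixR c x := by
  subst h
  ext φ
  constructor
  · intro hφ
    have hs : Tv.mk c φ hφ.1 ∈ stabilizer (Tv c) (a • x) := (mem_stabilizer_Tv _).2 hφ
    rw [orbit_stabilizer] at hs
    exact (mem_stabilizer_Tv _).1 hs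
  · intro hφ
    have hs : Tv.mk c φ hφ.1 ∈ stabilizer (Tv c) x := (mem_stabilizer_Tv _).2 hφ
    rw [← orbit_stabilizer x a] at hs
    exact (mem_stabilizer_Tv _).1 hs

theorem Small.comax (hS : Small F n Ω) {c : Fin n → F} (hc : c ≠ 0) {x y : Ω}
    (hxy : ∀ a : Tv c, a • x ≠ y) {φ : Fin n → F} (hφ : φ ⬝ᵥ c = 0) :
    ∃ a ∈ fixR c x, φ - a ∈ fixR c y := by
  obtain ⟨f, hf⟩ := hS.eqFix hc
  have hm : Tv.mk c φ hφ ∈ stabilizer (Tv c) x ⊔ stabilizer (Tv c) y := by
    rw [stabilizer_sup hf hxy]; exact Subgroup.mem_top _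
  obtain ⟨a, ha, b, hb, e⟩ := Subgroup.mem_sup.1 hm
  refine ⟨a.val, (mem_stabilizer_Tv a).1 ha, ?_⟩
  have := congrArg Tv.val e
  rw [Tv.val_mul, Tv.val_mk] at this
  rw [← this, add_sub_cancel_left]
  exact (mem_stabilizer_Tv b).1 hb

/-- A shear moves the fixing covectors within the group, or they supplement its direction. -/
theorem Small.move (hS : Small F n Ω) {c : Fin n → F} (hc : c ≠ 0) (x : Ω) {d ψ : Fin n → F}
    (hψd : ψ ⬝ᵥ d = 0) (hψc : ψ ⬝ᵥ c = 0) :
    (∀ y ∈ fixR c x, (y ⬝ᵥ d) • ψ ∈ fixR c x) ∨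
      ∀ φ : Fin n → F, φ ⬝ᵥ c = 0 → ∃ t : F, φ - t • ψ ∈ fixR c x := by
  have hsc : tv d ψ hψd • c = c := by rw [tv_smul, hψc, zero_smul, add_zero]
  by_cases h : ∃ a : Tv c, a • x = tv d ψ hψd • x
  · obtain ⟨a, ha⟩ := h
    refine Or.inl fun y hy => ?_
    have hy' := cov_mem_fixR (tv d ψ hψd) hy
    rw [hsc, fixR_orbit ha, cov_tv] at hy'
    have := sub_mem hy hy'
    rwa [sub_sub_cancel] at this
  · push Not at h
    refine Or.inr fun φ hφ => ?_
    obtain ⟨a, ha, hw⟩ := hS.comax hc h hφ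
    have hz := cov_mem_fixR (tv d ψ hψd)⁻¹ hw
    rw [inv_smul_smul, inv_smul_eq_iff.2 hsc.symm, tv_inv hψd, cov_tv] at hz
    refine ⟨-((φ - a) ⬝ᵥ d), ?_⟩
    have e := add_mem ha hz
    have : φ - -((φ - a) ⬝ᵥ d) • ψ = a + (φ - a - ((φ - a) ⬝ᵥ d) • -ψ) := by module
    rwa [this]

theorem Small.trichotomy (hS : Small F n Ω) {c : Fin n → F} (hc : c ≠ 0) (x : Ω) {ψ : Fin n → F}
    (hψc : ψ ⬝ᵥ c = 0) :
    (∀ φ : Fin n → F, φ ⬝ᵥ c = 0 → ∃ t : F, φ - t • ψ ∈ fixR c x) ∨
      (∀ t : F, t • ψ ∈ fixR c x) ∨ ∀ y ∈ fixR c x, y ∈ F ∙ ψ := by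
  by_cases hA : ∀ φ : Fin n → F, φ ⬝ᵥ c = 0 → ∃ t : F, φ - t • ψ ∈ fixR c x
  · exact Or.inl hA
  by_cases hC : ∀ y ∈ fixR c x, y ∈ F ∙ ψ
  · exact Or.inr (Or.inr hC)
  push Not at hC
  obtain ⟨y, hy, hy'⟩ := hC
  refine Or.inr (Or.inl fun t => ?_)
  obtain ⟨d, hd, hyd⟩ := exists_dot_pair hy' t
  rcases hS.move hc x hd hψc with h | h
  · exact hyd ▸ h y hy
  · exact absurd h hA

/-- A proper nontrivial group of fixing covectors contains a hyperplane. -/
theorem Small.exists_plane (hS : Small F n Ω) {c : Fin n → F} (hc : c ≠ 0) (x : Ω)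
    (hne : fixR c x ≠ ⊥) {φ₀ : Fin n → F} (hφc : φ₀ ⬝ᵥ c = 0) (hφ : φ₀ ∉ fixR c x) :
    ∃ d : Fin n → F, d ∉ F ∙ c ∧ ∀ φ : Fin n → F, φ ⬝ᵥ c = 0 → φ ⬝ᵥ d = 0 → φ ∈ fixR c x := by
  set R := fixR c x with hR
  have hn := hS.three
  have finish : ∀ S : Submodule F (Fin n → F), (∀ s ∈ S, s ∈ R) → ∀ ψ₁ : Fin n → F,
      ψ₁ ⬝ᵥ c = 0 → ψ₁ ∉ S → (∀ φ : Fin n → F, φ ⬝ᵥ c = 0 → ∃ t : F, φ - t • ψ₁ ∈ S) →
      ∃ d : Fin n → F, d ∉ F ∙ c ∧ ∀ φ : Fin n → F, φ ⬝ᵥ c = 0 → φ ⬝ᵥ d = 0 → φ ∈ R := by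
    intro S hSR ψ₁ hψc hψS hspan
    obtain ⟨d, hd, hψd⟩ := exists_dot_ne hψS
    refine ⟨d, fun hmem => ?_, fun φ h1 h2 => ?_⟩
    · obtain ⟨a, rfl⟩ := Submodule.mem_span_singleton.1 hmem
      exact hψd (by rw [dotProduct_smul, hψc, smul_zero])
    · obtain ⟨t, ht⟩ := hspan φ h1
      have h3 := hd _ ht
      rw [sub_dotProduct, smul_dotProduct, h2, zero_sub, neg_eq_zero, smul_eq_mul] at h3
      rcases mul_eq_zero.1 h3 with h4 | h4
      · rw [h4, zero_smul, sub_zero] at ht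
        exact hSR _ ht
      · exact absurd h4 hψd
  by_cases hline : ∃ y₀ : Fin n → F, y₀ ≠ 0 ∧ ∀ y ∈ R, y ∈ F ∙ y₀
  · obtain ⟨y₀, hy00, hsub₀⟩ := hline
    obtain ⟨y, hy, hy0⟩ : ∃ y ∈ R, y ≠ 0 := by
      by_contra hc'
      push Not at hc'
      exact hne ((AddSubgroup.eq_bot_iff_forall _).2 hc')
    have hsub : ∀ r ∈ R, r ∈ F ∙ y := by
      intro r hr
      obtain ⟨a, ha⟩ := Submodule.mem_span_singleton.1 (hsub₀ y hy)
      have ha0 : a ≠ 0 := fun e => hy0 (by rw [← ha, e, zero_smul])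
      obtain ⟨b, hb⟩ := Submodule.mem_span_singleton.1 (hsub₀ r hr)
      refine Submodule.mem_span_singleton.2 ⟨b / a, ?_⟩
      rw [← ha, smul_smul, div_mul_cancel₀ _ ha0, hb]
    have hyc : y ⬝ᵥ c = 0 := fixR_le hy
    have houter : ∀ ψ : Fin n → F, ψ ⬝ᵥ c = 0 → ψ ∉ F ∙ y →
        ∀ φ : Fin n → F, φ ⬝ᵥ c = 0 → ∃ t : F, φ - t • ψ ∈ R := by
      intro ψ hψc hψ
      rcases hS.trichotomy hc x hψc with h | h | h
      · exact h
      · exact absurd (hsub ψ (by simpa using h 1)) hψ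
      · obtain ⟨a, ha⟩ := Submodule.mem_span_singleton.1 (h y hy)
        have ha0 : a ≠ 0 := fun e => hy0 (by rw [← ha, e, zero_smul])
        exact absurd (Submodule.mem_span_singleton.2 ⟨a⁻¹, by rw [← ha, inv_smul_smul₀ ha0]⟩) hψ
    have hall : ∀ s ∈ F ∙ y, s ∈ R := by
      intro s hs
      obtain ⟨ψ, hψc, hψ⟩ : ∃ ψ : Fin n → F, ψ ⬝ᵥ c = 0 ∧ ψ ∉ F ∙ y := by
        by_contra hc'
        push Not at hc'
        have h1 := Submodule.finrank_mono (show perp c ≤ F ∙ y from fun φ h => hc' φ h)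
        rw [finrank_perp hc, finrank_span_singleton hy0] at h1
        omega
      obtain ⟨a, rfl⟩ := Submodule.mem_span_singleton.1 hs
      obtain ⟨t, ht⟩ := houter ψ hψc hψ (a • y) (by rw [smul_dotProduct, hyc, smul_zero])
      have h1 : t • ψ ∈ F ∙ y := by
        have := sub_mem (Submodule.smul_mem _ a (Submodule.mem_span_singleton_self y)) (hsub _ ht)
        rwa [sub_sub_cancel] at this
      rcases eq_or_ne t 0 with rfl | ht0
      · rwa [zero_smul, sub_zero] at ht
      · exact absurd ((Submodule.smul_mem_iff _ ht0).1 h1) hψ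
    have hφy : φ₀ ∉ F ∙ y := fun h => hφ (hall _ h)
    refine finish (F ∙ y) hall φ₀ hφc hφy fun φ h => ?_
    obtain ⟨t, ht⟩ := houter φ₀ hφc hφy φ h
    exact ⟨t, hsub _ ht⟩
  · push Not at hline
    let S : Submodule F (Fin n → F) :=
      { carrier := {ψ | ∀ t : F, t • ψ ∈ R}
        add_mem' := fun {a b} ha hb t => by rw [smul_add]; exact add_mem (ha t) (hb t)
        zero_mem' := fun t => by rw [smul_zero]; exact zero_mem R
        smul_mem' := fun a ψ h t => by rw [smul_smul]; exact h _ }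
    have hSR : ∀ s ∈ S, s ∈ R := fun s hs => by simpa using hs 1
    have houter : ∀ ψ : Fin n → F, ψ ⬝ᵥ c = 0 → ψ ∉ S →
        ∀ φ : Fin n → F, φ ⬝ᵥ c = 0 → ∃ t : F, φ - t • ψ ∈ R := by
      intro ψ hψc hψ
      rcases hS.trichotomy hc x hψc with h | h | h
      · exact h
      · exact absurd h hψ
      · obtain ⟨r, hr, hr'⟩ := hline ψ fun e => hψ (e ▸ S.zero_mem)
        exact absurd (h r hr) hr'
    refine finish S hSR φ₀ hφc (fun h => hφ (hSR _ h)) fun φ hφ' => ?_
    by_contra hno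
    push Not at hno
    let p : F × F →+ (Fin n → F) := AddMonoidHom.mk' (fun v => v.1 • φ₀ + v.2 • φ) fun a b => by
      simp only [Prod.fst_add, Prod.snd_add, add_smul]
      abel
    have hp : ∀ v, p v = v.1 • φ₀ + v.2 • φ := fun v => rfl
    have hpc : ∀ v, p v ⬝ᵥ c = 0 := fun v => by
      rw [hp, add_dotProduct, smul_dotProduct, smul_dotProduct, hφc, hφ', smul_zero, smul_zero, add_zero]
    have hpS : ∀ v, p v ∈ S → v = 0 := by
      intro v hv
      rcases eq_or_ne v.2 0 with h2 | h2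
      · rcases eq_or_ne v.1 0 with h1 | h1
        · exact Prod.ext h1 h2
        · rw [hp, h2, zero_smul, add_zero] at hv
          exact absurd (hSR _ ((Submodule.smul_mem_iff _ h1).1 hv)) hφ
      · refine absurd ?_ (hno (-(v.1 / v.2)))
        have := S.smul_mem v.2⁻¹ hv
        rwa [hp, smul_add, smul_smul, smul_smul, inv_mul_cancel₀ h2, one_smul,
          show v.2⁻¹ * v.1 = v.1 / v.2 by rw [div_eq_inv_mul],
          show (v.1 / v.2) • φ₀ + φ = φ - -(v.1 / v.2) • φ₀ by module] at this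
    obtain ⟨v, hv0, hv⟩ := lines_full (R.comap p) fun v hv0 w => by
      obtain ⟨t, ht⟩ := houter (p v) (hpc v) (fun h => hv0 (hpS v h)) (p w) (hpc w)
      refine ⟨w - t • v, ?_, t, (sub_add_cancel _ _).symm⟩
      show p (w - t • v) ∈ R
      rw [map_sub, show p (t • v) = t • p v by simp [hp, smul_add, smul_smul]]
      exact ht
    refine hv0 (hpS v fun t => ?_)
    have h1 : p (t • v) ∈ R := hv t
    rwa [show p (t • v) = t • p v by simp [hp, smul_add, smul_smul]] at h1

end CfsgLib.Known.MinIndexPSL
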